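import Mathlib

/-!
# Abelian subgroups of bounded index: the counting core

A finite group in which every noncentral centralizer is abelian-by-bounded, abelian
subgroups have bounded rank and boundedly many induced automorphisms modulo a bounded
power, has an abelian subgroup of bounded index.  The proof is a Jordan-style counting:
the large abelian subgroups fall into clusters with canonical cores meeting in the centre,
and a gap in the possible orders of the cores forces at most one large core.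
-/

set_option autoImplicit false
open scoped Classical Pointwise
open Subgroup

namespace Cfsg.BrauerFeit

section

variable {G : Type*} [Group G]

/-- All pairs of elements of `A` commute. -/
def Comm (A : Subgroup G) : Prop := ∀ a ∈ A, ∀ b ∈ A, Commute a b

/-- order of the centre -/
noncomputable def zc (G : Type*) [Group G] : ℕ := Nat.card (center G)

/-- The standing hypotheses. -/
structure Hyp (G : Type*) [Group G] (c w P : ℕ) (t : ℕ → ℕ) : Prop where
  cpos : 1 ≤ c
  tpos : ∀ N, 1 ≤ t N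
  ppos : 0 < P
  cent : ∀ x : G, x ∉ center G → ∃ J : Subgroup G, Comm J ∧ J ≤ centralizer {x} ∧
    center G ≤ J ∧ x ∈ J ∧ Nat.card (centralizer ({x} : Set G)) ≤ c * Nat.card J
  rank : ∀ A : Subgroup G, Comm A → ∀ N, 0 < N → Nat.card {a : A // a ^ N = 1} ≤ t N
  aut : ∀ A : Subgroup G, Comm A → ∃ L : Subgroup G, L ≤ normalizer (A : Set G) ∧
    Nat.card (normalizer (A : Set G)) ≤ w * Nat.card L ∧ ∀ s ∈ L, ∀ d ∈ A, Commute s (d ^ P)

variable [Finite G]

lemma zc_pos : 0 < zc G := Nat.card_pos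

lemma card_inf_eq (B K : Subgroup G) :
    Nat.card (K ⊓ B : Subgroup G) * B.relIndex K = Nat.card K := by
  have h := relIndex_mul_relIndex ⊥ (K ⊓ B) K bot_le inf_le_left
  rwa [relIndex_bot_left, relIndex_bot_left, inf_relIndex_left] at h

lemma inf_trans {A B K C : Subgroup G} (hKB : K ≤ B) {k l : ℕ}
    (hA : Nat.card A ≤ k * Nat.card K) (hB : Nat.card B ≤ l * Nat.card (B ⊓ C : Subgroup G)) :
    Nat.card A ≤ k * l * Nat.card (K ⊓ C : Subgroup G) := by
  have h1 := card_inf_eq C K
  have h2 := card_inf_eq C B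
  have h3 : C.relIndex K ≤ C.relIndex B :=
    Subgroup.relIndex_le_of_le_right hKB (Subgroup.FiniteIndex.index_ne_zero)
  have h4 : C.relIndex B ≤ l := by
    rw [← h2] at hB
    by_contra hcon
    push Not at hcon
    have : 0 < Nat.card (B ⊓ C : Subgroup G) := Nat.card_pos
    nlinarith
  calc Nat.card A ≤ k * Nat.card K := hA
    _ = k * (Nat.card (K ⊓ C : Subgroup G) * C.relIndex K) := by rw [h1]
    _ ≤ k * (Nat.card (K ⊓ C : Subgroup G) * l) := by gcongr; exact h3.trans h4
    _ = _ := by ring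

lemma not_le_center_of_lt {K : Subgroup G} (h : zc G < Nat.card K) : ¬ K ≤ center G :=
  fun hle => absurd (Subgroup.card_le_of_le hle) (not_le.mpr h)

lemma pow_factorial_mem {A B : Subgroup G} (hA : Comm A) {k : ℕ}
    (h : Nat.card A ≤ k * Nat.card (A ⊓ B : Subgroup G)) {a : G} (ha : a ∈ A) :
    a ^ k.factorial ∈ B := by
  have : (B.subgroupOf A).Normal := ⟨fun n hn g => by
    rw [mem_subgroupOf] at hn ⊢
    have h1 : Commute (g : G) (n : G) := hA g g.2 n n.2
    simpa [h1.eq] using hn⟩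
  have h2 := Subgroup.pow_index_mem (B.subgroupOf A) ⟨a, ha⟩
  rw [mem_subgroupOf] at h2
  have h3 := card_inf_eq B A
  have h4 : B.relIndex A ≤ k := by
    rw [← h3] at h
    by_contra hcon
    push Not at hcon
    have : 0 < Nat.card (A ⊓ B : Subgroup G) := Nat.card_pos
    nlinarith
  have h5 : B.relIndex A ∣ k.factorial := by
    apply Nat.dvd_factorial _ h4
    have : 0 < Nat.card A := Nat.card_pos
    rcases Nat.eq_zero_or_pos (B.relIndex A) with h0 | h0
    · rw [h0, mul_zero] at h3; omega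
    · exact h0
  obtain ⟨e, he⟩ := h5
  rw [he, pow_mul]
  exact pow_mem (by simpa [Subgroup.relIndex] using h2) e

variable {c w P : ℕ} {t : ℕ → ℕ}

lemma Hyp.card_le_pow (H : Hyp G c w P t) {A D : Subgroup G} (hA : Comm A) {N : ℕ} (hN : 0 < N)
    (hD : ∀ a ∈ A, a ^ N ∈ D) : Nat.card A ≤ t N * Nat.card (A ⊓ D : Subgroup G) := by
  let f : A →* (A ⊓ D : Subgroup G) :=
    { toFun := fun a => ⟨(a : G) ^ N, pow_mem a.2 N, hD a a.2⟩
      map_one' := by ext; simp
      map_mul' := fun a b => by ext; exact (hA a a.2 b b.2).mul_pow N }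
  have h1 : Nat.card f.ker ≤ t N := by
    refine le_trans (le_of_eq ?_) (H.rank A hA N hN)
    apply Nat.card_congr
    refine Equiv.subtypeEquiv (Equiv.refl _) (fun a => ?_)
    simp [f, MonoidHom.mem_ker, Subtype.ext_iff]
  have h2 : Nat.card f.range ≤ Nat.card (A ⊓ D : Subgroup G) := Subgroup.card_le_card_group _
  calc Nat.card A = Nat.card f.ker * Nat.card f.range := by
        rw [← Subgroup.index_ker, Subgroup.card_mul_index]
    _ ≤ _ := Nat.mul_le_mul h1 h2

/-! ### clusters -/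

/-- big abelian subgroups -/
def Big (c : ℕ) (A : Subgroup G) : Prop :=
  Comm A ∧ center G ≤ A ∧ zc G * c ^ 4 < Nat.card A

/-- two big abelian subgroups share a noncentral element -/
def Adj (c : ℕ) (A B : Subgroup G) : Prop := Big c A ∧ Big c B ∧ ¬ A ⊓ B ≤ center G

/-- connectedness -/
def Conn (c : ℕ) : Subgroup G → Subgroup G → Prop := Relation.ReflTransGen (Adj c)

/-- largest members of a component -/
def IsMax (c : ℕ) (A M : Subgroup G) : Prop :=
  Conn c A M ∧ ∀ B, Conn c A B → Nat.card B ≤ Nat.card M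

/-- the core of a component -/
def Dof (c : ℕ) (A : Subgroup G) : Subgroup G := sInf {M | IsMax c A M}

omit [Finite G] in
lemma Adj.symm {A B : Subgroup G} (h : Adj c A B) : Adj c B A :=
  ⟨h.2.1, h.1, by rw [inf_comm]; exact h.2.2⟩

omit [Finite G] in
lemma Conn.symm {A B : Subgroup G} (h : Conn c A B) : Conn c B A := by
  induction h with
  | refl => exact Relation.ReflTransGen.refl
  | tail _ hbc ih => exact Relation.ReflTransGen.head hbc.symm ih

omit [Finite G] in
lemma Conn.big {A B : Subgroup G} (h : Conn c A B) (hA : Big c A) : Big c B := by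
  induction h with
  | refl => exact hA
  | tail _ hbc _ => exact hbc.2.1

lemma exists_isMax (c : ℕ) (A : Subgroup G) : ∃ M, IsMax c A M := by
  obtain ⟨M, hM, hM'⟩ := Set.exists_max_image {B | Conn c A B} (fun B => Nat.card B)
    (Set.toFinite _) ⟨A, Relation.ReflTransGen.refl⟩
  exact ⟨M, hM, fun B hB => hM' B hB⟩

omit [Finite G] in
lemma isMax_congr {A B : Subgroup G} (h : Conn c A B) : Dof c A = Dof c B := by
  unfold Dof
  congr 1
  ext M
  constructor
  · exact fun hM => ⟨h.symm.trans hM.1, fun C hC => hM.2 C (h.trans hC)⟩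
  · exact fun hM => ⟨h.trans hM.1, fun C hC => hM.2 C (h.symm.trans hC)⟩

omit [Finite G] in
lemma mem_Dof {A : Subgroup G} {x : G} : x ∈ Dof c A ↔ ∀ M, IsMax c A M → x ∈ M := by
  simp [Dof, Subgroup.mem_sInf]

/-- very big abelian subgroups, the roots of components -/
def VBig (c : ℕ) (t : ℕ → ℕ) (P : ℕ) (A : Subgroup G) : Prop :=
  Comm A ∧ center G ≤ A ∧
    zc G * (c ^ 5 + t ((c ^ 3).factorial) * (t P + 1)) < Nat.card A

lemma VBig.big (hc : 1 ≤ c) {A : Subgroup G} (hA : VBig c t P A) : Big c A := by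
  refine ⟨hA.1, hA.2.1, lt_of_le_of_lt ?_ hA.2.2⟩
  apply Nat.mul_le_mul_left
  exact le_trans (Nat.pow_le_pow_right hc (by norm_num)) (Nat.le_add_right _ _)

lemma VBig.lt {A : Subgroup G} (hA : VBig c t P A) : zc G * c ^ 5 < Nat.card A :=
  lt_of_le_of_lt (Nat.mul_le_mul_left _ (Nat.le_add_right _ _)) hA.2.2

lemma Hyp.card_le_of_conn (H : Hyp G c w P t) {A M B : Subgroup G} (hA : VBig c t P A)
    (hM : IsMax c A M) (hB : Conn c A B) :
    Nat.card B ≤ c ^ 3 * Nat.card (B ⊓ M : Subgroup G) := by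
  have hAbig := hA.big H.cpos
  have hMbig := hM.1.big hAbig
  have hMB : Conn c M B := hM.1.symm.trans hB
  clear hB
  induction hMB with
  | refl => rw [inf_idem]; exact Nat.le_mul_of_pos_left _ (Nat.pow_pos H.cpos)
  | @tail A' B' hMA' hAB ih =>
    obtain ⟨hA'big, hB'big, hne⟩ := hAB
    obtain ⟨u, hu, huz⟩ := SetLike.not_le_iff_exists.mp hne
    obtain ⟨J, hJc, hJle, hJZ, -, hJcard⟩ := H.cent u huz
    have hA'C : A' ≤ centralizer {u} := fun a ha =>
      mem_centralizer_singleton_iff.mpr (hA'big.1 a ha u hu.1).eq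
    have hB'C : B' ≤ centralizer {u} := fun a ha =>
      mem_centralizer_singleton_iff.mpr (hB'big.1 a ha u hu.2).eq
    have hCJ : Nat.card (centralizer ({u} : Set G)) ≤
        c * Nat.card (centralizer ({u} : Set G) ⊓ J : Subgroup G) := by
      rwa [inf_eq_right.mpr hJle]
    -- `A' ⊓ M ⊓ J` is noncentral
    have h1 := inf_trans (inf_le_left.trans hA'C : A' ⊓ M ≤ _) ih hCJ
    have hnz : ¬ (A' ⊓ M ⊓ J : Subgroup G) ≤ center G := by
      apply not_le_center_of_lt
      by_contra hcon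
      push Not at hcon
      have := hA'big.2.2
      have h5 : c ^ 3 * c * Nat.card (A' ⊓ M ⊓ J : Subgroup G) ≤ zc G * c ^ 4 := by
        calc c ^ 3 * c * Nat.card (A' ⊓ M ⊓ J : Subgroup G) ≤ c ^ 3 * c * zc G := by gcongr
          _ = _ := by ring
      omega
    obtain ⟨x, hx, hxz⟩ := SetLike.not_le_iff_exists.mp hnz
    obtain ⟨J', hJ'c, hJ'le, hJ'Z, -, hJ'card⟩ := H.cent x hxz
    have hMC : M ≤ centralizer {x} := fun a ha =>
      mem_centralizer_singleton_iff.mpr (hMbig.1 a ha x hx.1.2).eq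
    have hJC : J ≤ centralizer {x} := fun a ha =>
      mem_centralizer_singleton_iff.mpr (hJc a ha x hx.2).eq
    have hCJ' : Nat.card (centralizer ({x} : Set G)) ≤
        c * Nat.card (centralizer ({x} : Set G) ⊓ J' : Subgroup G) := by
      rwa [inf_eq_right.mpr hJ'le]
    have hMJ' : Nat.card M ≤ 1 * c * Nat.card (M ⊓ J' : Subgroup G) :=
      inf_trans hMC (by rw [one_mul]) hCJ'
    have hAM : Nat.card A ≤ Nat.card M := hM.2 A Relation.ReflTransGen.refl
    have hMJ'z : zc G * c ^ 4 < Nat.card (M ⊓ J' : Subgroup G) := by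
      have := hA.lt
      by_contra hcon
      push Not at hcon
      have h6 : 1 * c * Nat.card (M ⊓ J' : Subgroup G) ≤ zc G * c ^ 5 := by
        calc 1 * c * Nat.card (M ⊓ J' : Subgroup G) ≤ 1 * c * (zc G * c ^ 4) := by gcongr
          _ = _ := by ring
      omega
    have hJ'big : Big c J' :=
      ⟨hJ'c, hJ'Z, lt_of_lt_of_le hMJ'z (Subgroup.card_le_of_le inf_le_right)⟩
    have hadj : Adj c M J' := by
      refine ⟨hMbig, hJ'big, not_le_center_of_lt (lt_of_le_of_lt ?_ hMJ'z)⟩
      exact Nat.le_mul_of_pos_right _ (Nat.pow_pos H.cpos)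
    have hJ'M : Nat.card J' ≤ Nat.card M := hM.2 J' (hM.1.tail hadj)
    have hJ'M2 : Nat.card J' ≤ c * Nat.card (J' ⊓ M : Subgroup G) := by
      rw [inf_comm J' M]; rw [one_mul] at hMJ'; exact hJ'M.trans hMJ'
    have hJJ' : Nat.card J ≤ 1 * c * Nat.card (J ⊓ J' : Subgroup G) :=
      inf_trans hJC (by rw [one_mul]) hCJ'
    have hJM : Nat.card J ≤ 1 * c * c * Nat.card (J ⊓ M : Subgroup G) := by
      refine (inf_trans (inf_le_right : J ⊓ J' ≤ J') hJJ' hJ'M2).trans ?_
      gcongr
      exact Subgroup.card_le_of_le (inf_le_inf_right M inf_le_left)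
    have hB'J : Nat.card B' ≤ 1 * c * Nat.card (B' ⊓ J : Subgroup G) :=
      inf_trans hB'C (by rw [one_mul]) hCJ
    refine (inf_trans (inf_le_right : B' ⊓ J ≤ J) hB'J hJM).trans ?_
    calc 1 * c * (1 * c * c) * Nat.card (B' ⊓ J ⊓ M : Subgroup G)
        = c ^ 3 * Nat.card (B' ⊓ J ⊓ M : Subgroup G) := by ring
      _ ≤ _ := by
        gcongr
        exact Subgroup.card_le_of_le (inf_le_inf_right M inf_le_left)

/-- the cores -/
def IsCore (c : ℕ) (t : ℕ → ℕ) (P : ℕ) (D : Subgroup G) : Prop :=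
  ∃ A, VBig c t P A ∧ D = Dof c A

lemma Hyp.card_le_dof (H : Hyp G c w P t) {A M : Subgroup G} (hA : VBig c t P A)
    (hM : IsMax c A M) : Nat.card M ≤ t ((c ^ 3).factorial) * Nat.card (Dof c A) := by
  have hMb := hM.1.big (hA.big H.cpos)
  have h : ∀ a ∈ M, a ^ (c ^ 3).factorial ∈ Dof c A := fun a ha =>
    mem_Dof.mpr fun M' hM' => pow_factorial_mem hMb.1 (H.card_le_of_conn hA hM' hM.1) ha
  refine (H.card_le_pow hMb.1 (Nat.factorial_pos _) h).trans ?_
  gcongr
  exact Subgroup.card_le_of_le inf_le_right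

lemma Hyp.card_le_inf_dof (H : Hyp G c w P t) {A B : Subgroup G} (hA : VBig c t P A)
    (hB : Conn c A B) :
    Nat.card B ≤ c ^ 3 * t ((c ^ 3).factorial) * Nat.card (B ⊓ Dof c A : Subgroup G) := by
  obtain ⟨M, hM⟩ := exists_isMax c A
  have hle : Dof c A ≤ M := sInf_le hM
  have hMD : Nat.card M ≤ t ((c ^ 3).factorial) * Nat.card (M ⊓ Dof c A : Subgroup G) := by
    rw [inf_eq_right.mpr hle]; exact H.card_le_dof hA hM
  refine (inf_trans (inf_le_right : B ⊓ M ≤ M) (H.card_le_of_conn hA hM hB) hMD).trans ?_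
  gcongr
  exact Subgroup.card_le_of_le (inf_le_inf_right _ inf_le_left)

lemma Hyp.core_spec (H : Hyp G c w P t) {D : Subgroup G} (hD : IsCore c t P D) :
    Comm D ∧ center G ≤ D ∧ zc G * (t P + 1) < Nat.card D ∧
      Nat.card (normalizer (D : Set G)) ≤ w * c * t ((c ^ 3).factorial) * Nat.card D := by
  obtain ⟨A, hA, rfl⟩ := hD
  obtain ⟨M, hM⟩ := exists_isMax c A
  have hMb := hM.1.big (hA.big H.cpos)
  have hle : Dof c A ≤ M := sInf_le hM
  have hcomm : Comm (Dof c A) := fun a ha b hb => hMb.1 a (hle ha) b (hle hb)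
  have hZ : center G ≤ Dof c A := fun x hx => mem_Dof.mpr fun M' hM' =>
    (hM'.1.big (hA.big H.cpos)).2.1 hx
  have hAM : Nat.card A ≤ Nat.card M := hM.2 A Relation.ReflTransGen.refl
  have hMD := H.card_le_dof hA hM
  have hsize : zc G * (t P + 1) < Nat.card (Dof c A) := by
    have h0 := hA.2.2
    by_contra hcon
    push Not at hcon
    have h1 : t ((c ^ 3).factorial) * Nat.card (Dof c A) ≤
        zc G * (t ((c ^ 3).factorial) * (t P + 1)) := by
      calc t ((c ^ 3).factorial) * Nat.card (Dof c A)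
          ≤ t ((c ^ 3).factorial) * (zc G * (t P + 1)) := by gcongr
        _ = _ := by ring
    have h2 : zc G * (t ((c ^ 3).factorial) * (t P + 1)) ≤
        zc G * (c ^ 5 + t ((c ^ 3).factorial) * (t P + 1)) :=
      Nat.mul_le_mul_left _ (Nat.le_add_left _ _)
    omega
  refine ⟨hcomm, hZ, hsize, ?_⟩
  -- an element whose `P`-th power is noncentral
  obtain ⟨d, hd, hdz⟩ : ∃ d ∈ Dof c A, d ^ P ∉ center G := by
    by_contra hcon
    push Not at hcon
    have h1 := H.card_le_pow hcomm H.ppos hcon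
    have h2 : Nat.card (Dof c A ⊓ center G : Subgroup G) ≤ zc G :=
      Subgroup.card_le_of_le inf_le_right
    have h3 : Nat.card (Dof c A) ≤ zc G * (t P + 1) := by
      calc Nat.card (Dof c A) ≤ t P * zc G := h1.trans (Nat.mul_le_mul_left _ h2)
        _ ≤ zc G * (t P + 1) := by rw [mul_comm]; exact Nat.mul_le_mul_left _ (Nat.le_succ _)
    omega
  obtain ⟨J, hJc, hJle, hJZ, hxJ, hJcard⟩ := H.cent (d ^ P) hdz
  have hxM : d ^ P ∈ M := pow_mem (hle hd) P
  have hMC : M ≤ centralizer {d ^ P} := fun a ha =>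
    mem_centralizer_singleton_iff.mpr (hMb.1 a ha _ hxM).eq
  have hJbig : Big c J := by
    refine ⟨hJc, hJZ, ?_⟩
    have h0 := hA.lt
    have h1 : Nat.card M ≤ c * Nat.card J := (Subgroup.card_le_of_le hMC).trans hJcard
    by_contra hcon
    push Not at hcon
    have h2 : c * Nat.card J ≤ zc G * c ^ 5 := by
      calc c * Nat.card J ≤ c * (zc G * c ^ 4) := by gcongr
        _ = _ := by ring
    omega
  have hadj : Adj c M J := ⟨hMb, hJbig, fun hcon => hdz (hcon ⟨hxM, hxJ⟩)⟩
  have hJM := hM.2 J (hM.1.tail hadj)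
  obtain ⟨L, -, hLcard, hL⟩ := H.aut (Dof c A) hcomm
  have hLC : L ≤ centralizer {d ^ P} := fun s hs =>
    mem_centralizer_singleton_iff.mpr (hL s hs d hd).eq
  calc Nat.card (normalizer (Dof c A : Set G)) ≤ w * Nat.card L := hLcard
    _ ≤ w * (c * Nat.card J) := by gcongr; exact (Subgroup.card_le_of_le hLC).trans hJcard
    _ ≤ w * (c * (t ((c ^ 3).factorial) * Nat.card (Dof c A))) := by
        gcongr; exact hJM.trans hMD
    _ = _ := by ring

lemma Hyp.core_eq (H : Hyp G c w P t) {D D' : Subgroup G} (hD : IsCore c t P D)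
    (hD' : IsCore c t P D') (h : ¬ D ⊓ D' ≤ center G) : D = D' := by
  obtain ⟨A, hA, rfl⟩ := hD
  obtain ⟨A', hA', rfl⟩ := hD'
  obtain ⟨M, hM⟩ := exists_isMax c A
  obtain ⟨M', hM'⟩ := exists_isMax c A'
  have hadj : Adj c M M' := ⟨hM.1.big (hA.big H.cpos), hM'.1.big (hA'.big H.cpos),
    fun hcon => h ((inf_le_inf (sInf_le (show M ∈ {M | IsMax c A M} from hM))
      (sInf_le (show M' ∈ {M | IsMax c A' M} from hM'))).trans hcon)⟩
  exact isMax_congr ((hM.1.tail hadj).trans hM'.1.symm)

/-! ### invariance under automorphisms -/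

omit [Finite G] in
lemma comm_map (φ : G ≃* G) {A : Subgroup G} (h : Comm A) : Comm (A.map φ.toMonoidHom) := by
  rintro _ ⟨a, ha, rfl⟩ _ ⟨b, hb, rfl⟩
  exact (h a ha b hb).map φ.toMonoidHom

omit [Finite G] in
lemma map_center_eq (φ : G ≃* G) : (center G).map φ.toMonoidHom = center G := by
  ext x
  constructor
  · rintro ⟨a, ha, rfl⟩
    rw [Subgroup.mem_center_iff]
    intro g
    obtain ⟨g', rfl⟩ := φ.surjective g
    simpa using congrArg φ (Subgroup.mem_center_iff.mp ha g')
  · intro hx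
    refine ⟨φ.symm x, ?_, by simp⟩
    refine Subgroup.mem_center_iff.mpr fun g => φ.injective ?_
    simpa using Subgroup.mem_center_iff.mp hx (φ g)

omit [Finite G] in
lemma card_map (φ : G ≃* G) (A : Subgroup G) :
    Nat.card (A.map φ.toMonoidHom) = Nat.card A :=
  (Nat.card_congr (A.equivMapOfInjective φ.toMonoidHom φ.injective).toEquiv).symm

omit [Finite G] in
lemma big_map (φ : G ≃* G) {A : Subgroup G} (h : Big c A) : Big c (A.map φ.toMonoidHom) :=
  ⟨comm_map φ h.1, (map_center_eq φ).symm.le.trans (Subgroup.map_mono h.2.1),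
    by rw [card_map]; exact h.2.2⟩

omit [Finite G] in
lemma adj_map (φ : G ≃* G) {A B : Subgroup G} (h : Adj c A B) :
    Adj c (A.map φ.toMonoidHom) (B.map φ.toMonoidHom) := by
  refine ⟨big_map φ h.1, big_map φ h.2.1, fun hcon => h.2.2 ?_⟩
  rw [← Subgroup.map_inf _ _ _ φ.injective, ← map_center_eq φ] at hcon
  exact (Subgroup.map_le_map_iff_of_injective φ.injective).mp hcon

omit [Finite G] in
lemma conn_map (φ : G ≃* G) {A B : Subgroup G} (h : Conn c A B) :
    Conn c (A.map φ.toMonoidHom) (B.map φ.toMonoidHom) :=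
  Relation.ReflTransGen.lift (fun X => Subgroup.map φ.toMonoidHom X) (fun _ _ h => adj_map φ h) _ _ h

omit [Finite G] in
lemma map_symm_map (φ : G ≃* G) (A : Subgroup G) :
    (A.map φ.toMonoidHom).map φ.symm.toMonoidHom = A := by
  ext x; simp [Subgroup.mem_map]

omit [Finite G] in
lemma isMax_map (φ : G ≃* G) {A M : Subgroup G} (h : IsMax c A M) :
    IsMax c (A.map φ.toMonoidHom) (M.map φ.toMonoidHom) := by
  refine ⟨conn_map φ h.1, fun B hB => ?_⟩
  have h1 := conn_map φ.symm hB
  rw [map_symm_map] at h1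
  have h2 := h.2 _ h1
  rw [card_map] at h2 ⊢
  exact h2

omit [Finite G] in
lemma core_map (φ : G ≃* G) {D : Subgroup G} (h : IsCore c t P D) :
    IsCore c t P (D.map φ.toMonoidHom) := by
  obtain ⟨A, hA, rfl⟩ := h
  refine ⟨A.map φ.toMonoidHom, ⟨comm_map φ hA.1,
    (map_center_eq φ).symm.le.trans (Subgroup.map_mono hA.2.1), by
      rw [card_map]; exact hA.2.2⟩, ?_⟩
  ext x
  rw [Subgroup.mem_map_equiv, mem_Dof, mem_Dof]
  constructor
  · intro hx M' hM'
    have h1 := isMax_map φ.symm hM'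
    rw [map_symm_map] at h1
    have h2 := hx _ h1
    obtain ⟨y, hy, hyx⟩ := h2
    have : y = x := φ.symm.injective (by simpa using hyx)
    rwa [← this]
  · intro hx M hM
    have h2 := hx _ (isMax_map φ hM)
    rwa [Subgroup.mem_map_equiv] at h2

end

end Cfsg.BrauerFeit
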