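import Cfsg.Agent.Lib.BrauerFeit.Core

/-!
# Counting with a gap in the orders of the cores
-/

set_option autoImplicit false
open scoped Classical Pointwise
open Subgroup

namespace Cfsg.BrauerFeit

/-- Orbitwise divisibility of a sum. -/
lemma dvd_sum_of_orbit {H α : Type*} [Group H] [MulAction H α] [Finite α] (N : ℕ) (f : α → ℕ)
    (hf : ∀ (h : H) (a : α), f (h • a) = f a) :
    ∀ s : Finset α, (∀ (h : H), ∀ a ∈ s, h • a ∈ s) →
      (∀ a ∈ s, N ∣ (MulAction.orbit H a).ncard * f a) → N ∣ ∑ a ∈ s, f a := by
  intro s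
  induction s using Finset.strongInduction with
  | H s ih =>
    intro hs hN
    rcases s.eq_empty_or_nonempty with rfl | ⟨a, ha⟩
    · simp
    rw [← Finset.sum_filter_add_sum_filter_not s (fun b => b ∈ MulAction.orbit H a)]
    apply dvd_add
    · have h1 : ((s.filter fun b => b ∈ MulAction.orbit H a) : Set α) = MulAction.orbit H a := by
        ext b
        simp only [Finset.coe_filter, Set.mem_ofPred_eq]
        refine ⟨fun h => h.2, fun h => ⟨?_, h⟩⟩
        obtain ⟨g, rfl⟩ := h
        exact hs g a ha
      have h2 : ∀ b ∈ s.filter (fun b => b ∈ MulAction.orbit H a), f b = f a := by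
        intro b hb
        obtain ⟨g, rfl⟩ := (Finset.mem_filter.mp hb).2
        exact hf g a
      rw [Finset.sum_congr rfl h2, Finset.sum_const, smul_eq_mul]
      have := hN a ha
      rwa [← h1, Set.ncard_coe_finset] at this
    · apply ih
      · refine Finset.filter_ssubset.mpr ⟨a, ha, ?_⟩
        simp [MulAction.mem_orbit_self]
      · intro g b hb
        rw [Finset.mem_filter] at hb ⊢
        refine ⟨hs g b hb.1, fun hcon => hb.2 ?_⟩
        obtain ⟨g', hg'⟩ := hcon
        exact ⟨g⁻¹ * g', by simp only [mul_smul] at *; rw [hg', inv_smul_smul]⟩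
      · exact fun b hb => hN b (Finset.mem_filter.mp hb).1

section

variable {G : Type*} [Group G] [Finite G]

lemma ncard_eq_mul_of_invariant (D : Subgroup G) (T : Set G)
    (hT : ∀ x ∈ T, ∀ d ∈ D, x * d ∈ T) :
    T.ncard = Nat.card D * ((QuotientGroup.mk : G → G ⧸ D) '' T).ncard := by
  have h : T = (QuotientGroup.mk : G → G ⧸ D) ⁻¹' ((QuotientGroup.mk : G → G ⧸ D) '' T) := by
    ext x
    refine ⟨fun hx => ⟨x, hx, rfl⟩, ?_⟩
    rintro ⟨y, hy, hyx⟩
    have := hT y hy _ (QuotientGroup.eq.mp hyx)
    simpa using this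
  conv_lhs => rw [h]
  rw [← Nat.card_coe_set_eq, ← Nat.card_coe_set_eq,
    Nat.card_congr (QuotientGroup.preimageMkEquivSubgroupProdSet D _), Nat.card_prod]

lemma orbit_mul_normalizer (D : Subgroup G) :
    (MulAction.orbit (ConjAct G) D).ncard * Nat.card (normalizer (D : Set G)) = Nat.card G := by
  rw [← MulAction.index_stabilizer]
  have h : Nat.card (normalizer (D : Set G)) = Nat.card (MulAction.stabilizer (ConjAct G) D) := by
    refine Nat.card_congr (Equiv.subtypeEquiv ConjAct.toConjAct.toEquiv fun g => ?_)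
    rw [Subgroup.mem_normalizer_iff, MulAction.mem_stabilizer_iff]
    constructor
    · intro hg
      ext x
      rw [Subgroup.mem_pointwise_smul_iff_inv_smul_mem]
      have := hg (g⁻¹ * x * g)
      simpa [ConjAct.smul_def, mul_assoc] using this
    · intro hg x
      conv_rhs => rw [← hg]
      rw [Subgroup.mem_pointwise_smul_iff_inv_smul_mem]
      simp [ConjAct.smul_def, mul_assoc]
  rw [h, mul_comm, Subgroup.card_mul_index]
  rfl

lemma conjAct_smul_eq_map (h : ConjAct G) (D : Subgroup G) :
    h • D = D.map (MulAut.conj (ConjAct.ofConjAct h)).toMonoidHom := by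
  ext x
  rw [Subgroup.mem_pointwise_smul_iff_inv_smul_mem, Subgroup.mem_map_equiv]
  simp [ConjAct.smul_def, MulAut.conj_symm_apply]

variable {c w P : ℕ} {t : ℕ → ℕ}

/-- index bound for the normalizer of a core -/
def Wb (c w : ℕ) (t : ℕ → ℕ) : ℕ := w * c * t ((c ^ 3).factorial)

/-- loss from centralizer to core -/
def c5 (c : ℕ) (t : ℕ → ℕ) : ℕ := c * (c ^ 3 * t ((c ^ 3).factorial))

/-- threshold for very big subgroups -/
def KB (c P : ℕ) (t : ℕ → ℕ) : ℕ := c ^ 5 + t ((c ^ 3).factorial) * (t P + 1)

/-- the elements centralizing a large part of `D` -/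
def TK (K : ℕ) (D : Subgroup G) : Set G :=
  {x | zc G * K < Nat.card (centralizer {x} ⊓ D : Subgroup G)}

omit [Finite G] in
lemma card_centralizer_inf_map (φ : G ≃* G) (x : G) (D : Subgroup G) :
    Nat.card (centralizer {φ x} ⊓ D.map φ.toMonoidHom : Subgroup G) =
      Nat.card (centralizer {x} ⊓ D : Subgroup G) := by
  have h : centralizer {φ x} ⊓ D.map φ.toMonoidHom =
      (centralizer {x} ⊓ D).map φ.toMonoidHom := by
    ext y
    simp only [Subgroup.mem_inf, Subgroup.mem_map_equiv, mem_centralizer_singleton_iff]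
    refine and_congr_left fun _ => ?_
    constructor
    · intro hy; apply φ.injective; simpa using hy
    · intro hy; have := congrArg φ hy; simpa using this
  rw [h, card_map]

omit [Finite G] in
lemma ncard_TK_map (φ : G ≃* G) (K : ℕ) (D : Subgroup G) :
    (TK K (D.map φ.toMonoidHom)).ncard = (TK K D).ncard := by
  have h : TK K (D.map φ.toMonoidHom) = φ '' TK K D := by
    ext x
    obtain ⟨y, rfl⟩ := φ.surjective x
    rw [Function.Injective.mem_set_image φ.injective]
    simp only [TK, Set.mem_ofPred_eq, card_centralizer_inf_map]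
  rw [h, Set.ncard_image_of_injective _ φ.injective]

lemma Hyp.cover (H : Hyp G c w P t) {x : G} (hx : x ∉ center G)
    (hbig : zc G * (c * KB c P t) < Nat.card (centralizer ({x} : Set G))) :
    ∃ D, IsCore c t P D ∧ Nat.card (centralizer ({x} : Set G)) ≤
      c5 c t * Nat.card (centralizer {x} ⊓ D : Subgroup G) := by
  obtain ⟨J, hJc, hJle, hJZ, -, hJcard⟩ := H.cent x hx
  have hJ : VBig c t P J := by
    refine ⟨hJc, hJZ, ?_⟩
    by_contra hcon
    push Not at hcon
    have h1 : c * Nat.card J ≤ zc G * (c * KB c P t) := by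
      calc c * Nat.card J ≤ c * (zc G * KB c P t) := Nat.mul_le_mul_left _ hcon
        _ = _ := by ring
    omega
  refine ⟨Dof c J, ⟨J, hJ, rfl⟩, ?_⟩
  refine (inf_trans (le_refl J) hJcard (H.card_le_inf_dof hJ Relation.ReflTransGen.refl)).trans ?_
  unfold c5
  gcongr
  exact Subgroup.card_le_of_le (inf_le_inf_right _ hJle)

lemma Hyp.tk_unique (H : Hyp G c w P t) {K : ℕ} (hK1 : c * KB c P t ≤ K) (hK2 : c5 c t ≤ K)
    {x : G} (hx : x ∉ center G) {D D' : Subgroup G} (hD : IsCore c t P D) (hD' : IsCore c t P D')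
    (h : x ∈ TK K D) (h' : x ∈ TK K D') : D = D' := by
  simp only [TK, Set.mem_ofPred_eq] at h h'
  obtain ⟨E, hE, hEcard⟩ := H.cover hx (by
    refine lt_of_le_of_lt (Nat.mul_le_mul_left _ hK1) (lt_of_lt_of_le h ?_)
    exact Subgroup.card_le_of_le inf_le_left)
  have key : ∀ F : Subgroup G, IsCore c t P F →
      zc G * K < Nat.card (centralizer {x} ⊓ F : Subgroup G) → F = E := by
    intro F hF hFc
    refine H.core_eq hF hE fun hcon => ?_
    have h1 := inf_trans (inf_le_left : centralizer {x} ⊓ F ≤ centralizer {x})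
      (le_of_eq (one_mul _).symm) hEcard
    have h2 : Nat.card (centralizer {x} ⊓ F ⊓ E : Subgroup G) ≤ zc G :=
      Subgroup.card_le_of_le (le_trans (inf_le_inf_right E inf_le_right) hcon)
    have h3 : 1 * c5 c t * Nat.card (centralizer {x} ⊓ F ⊓ E : Subgroup G) ≤ zc G * K := by
      calc 1 * c5 c t * Nat.card (centralizer {x} ⊓ F ⊓ E : Subgroup G)
          ≤ 1 * K * zc G := Nat.mul_le_mul (Nat.mul_le_mul_left _ hK2) h2
        _ = _ := by ring
    omega
  rw [key D hD h, key D' hD' h']

omit [Finite G] in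
lemma centralizer_mul_center (x : G) {u : G} (hu : u ∈ center G) :
    centralizer {x * u} = centralizer ({x} : Set G) := by
  ext y
  simp only [mem_centralizer_singleton_iff]
  have h : y * u = u * y := Subgroup.mem_center_iff.mp hu y
  constructor
  · intro hy
    apply mul_right_cancel (b := u)
    calc y * x * u = y * (x * u) := mul_assoc _ _ _
      _ = x * u * y := hy
      _ = x * y * u := by rw [mul_assoc, ← h, ← mul_assoc]
  · intro hy
    rw [← mul_assoc, hy, mul_assoc, h, ← mul_assoc]

/-- the elements lying in no `TK` -/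
def SK (c : ℕ) (t : ℕ → ℕ) (P K : ℕ) : Set G :=
  {x | x ∉ center G ∧ ∀ D, IsCore c t P D → x ∉ TK K D}

/-- the bound on centralizers modulo the centre -/
def L0 (c P : ℕ) (t : ℕ → ℕ) (K : ℕ) : ℕ :=
  (c5 c t * K * ∑ i ∈ Finset.range (c5 c t * K + c * KB c P t + 1), t i).factorial

lemma Hyp.small_dvd (H : Hyp G c w P t) {K : ℕ} (hK1 : c * KB c P t ≤ K) :
    Nat.card G ∣ L0 c P t K * (SK (G := G) c t P K).ncard := by
  set S := SK (G := G) c t P K with hS
  have hc5 : 1 ≤ c5 c t := Nat.mul_pos H.cpos (Nat.mul_pos (Nat.pow_pos H.cpos) (H.tpos _))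
  -- invariance
  have hSZ : ∀ x ∈ S, ∀ u ∈ center G, x * u ∈ S := by
    intro x hx u hu
    refine ⟨fun hcon => hx.1 ?_, fun D hD hcon => hx.2 D hD ?_⟩
    · simpa using mul_mem hcon (inv_mem hu)
    · simpa only [TK, Set.mem_ofPred_eq, centralizer_mul_center x hu] using hcon
  have hSconj : ∀ x ∈ S, ∀ g : G, g * x * g⁻¹ ∈ S := by
    intro x hx g
    refine ⟨fun hcon => hx.1 ?_, fun D hD hcon => ?_⟩
    · have := (inferInstance : (center G).Normal).conj_mem _ hcon g⁻¹
      simpa [mul_assoc] using this
    · apply hx.2 _ (core_map (MulAut.conj g).symm hD)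
      simp only [TK, Set.mem_ofPred_eq] at hcon ⊢
      have h := card_centralizer_inf_map (MulAut.conj g).symm (g * x * g⁻¹) D
      simp only [MulAut.conj_symm_apply] at h
      rw [show g⁻¹ * (g * x * g⁻¹) * g = x by group] at h
      rwa [h]
  -- centralizers of the small elements are small
  have hsmall : ∀ x ∈ S, Nat.card (centralizer ({x} : Set G)) ≤ zc G * (c5 c t * K) := by
    intro x hx
    by_contra hcon
    push Not at hcon
    obtain ⟨D, hD, hDc⟩ := H.cover hx.1 (lt_of_le_of_lt (Nat.mul_le_mul_left _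
      (hK1.trans (Nat.le_mul_of_pos_left _ hc5))) hcon)
    apply hx.2 D hD
    simp only [TK, Set.mem_ofPred_eq]
    by_contra hcon2
    push Not at hcon2
    have : c5 c t * Nat.card (centralizer {x} ⊓ D : Subgroup G) ≤ zc G * (c5 c t * K) := by
      calc _ ≤ c5 c t * (zc G * K) := Nat.mul_le_mul_left _ hcon2
        _ = _ := by ring
    omega
  -- pass to the quotient
  set Sb : Set (G ⧸ center G) := QuotientGroup.mk '' S with hSb
  have hScard : S.ncard = zc G * Sb.ncard := ncard_eq_mul_of_invariant _ S hSZ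
  let s : Finset (G ⧸ center G) := Sb.toFinite.toFinset
  have hsum : Nat.card G ∣ ∑ _a ∈ s, L0 c P t K * zc G := by
    refine dvd_sum_of_orbit (H := ConjAct (G ⧸ center G)) _ _ (fun _ _ => rfl) s ?_ ?_
    · intro h a ha
      simp only [s, Set.Finite.mem_toFinset] at ha ⊢
      obtain ⟨x, hx, rfl⟩ := ha
      obtain ⟨g, hg⟩ := QuotientGroup.mk_surjective (ConjAct.ofConjAct h)
      exact ⟨g * x * g⁻¹, hSconj x hx g, by rw [ConjAct.smul_def, ← hg]; rfl⟩
    · intro a ha
      simp only [s, Set.Finite.mem_toFinset] at ha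
      obtain ⟨x, hx, rfl⟩ := ha
      set C := centralizer ({x} : Set G) with hC
      set st := MulAction.stabilizer (ConjAct (G ⧸ center G)) (x : G ⧸ center G) with hst
      let Pre : Set G := {y | ConjAct.toConjAct (y : G ⧸ center G) ∈ st}
      have hPre : Pre.ncard = zc G * Nat.card st := by
        rw [ncard_eq_mul_of_invariant (center G) Pre (fun y hy u hu => by
          simp only [Pre, Set.mem_ofPred_eq] at hy ⊢
          rwa [QuotientGroup.mk_mul_of_mem y hu])]
        congr 1
        rw [← Nat.card_coe_set_eq]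
        refine Nat.card_congr (Equiv.subtypeEquiv ConjAct.toConjAct.toEquiv fun q => ?_)
        constructor
        · rintro ⟨y, hy, rfl⟩; exact hy
        · intro hq
          obtain ⟨y, rfl⟩ := QuotientGroup.mk_surjective q
          exact ⟨y, hq, rfl⟩
      have hZC : center G ≤ C := fun u hu => mem_centralizer_singleton_iff.mpr
        (Subgroup.mem_center_iff.mp hu x).symm
      set k := (center G).relIndex C with hk
      have hCk : zc G * k = Nat.card C := by
        have := card_inf_eq (center G) C
        rwa [inf_eq_right.mpr hZC] at this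
      have hk0 : 0 < k := by
        rcases Nat.eq_zero_or_pos k with h | h
        · rw [h, mul_zero] at hCk
          exact absurd hCk.symm (Nat.card_pos (α := C)).ne'
        · exact h
      have hkle : k ≤ c5 c t * K := by
        have := hsmall x hx
        rw [← hC, ← hCk] at this
        exact Nat.le_of_mul_le_mul_left this zc_pos
      have hxk : x ^ k ∈ center G := by
        have : ((center G).subgroupOf C).Normal := inferInstance
        have h := Subgroup.pow_index_mem ((center G).subgroupOf C)
          ⟨x, mem_centralizer_singleton_iff.mpr rfl⟩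
        simpa [mem_subgroupOf, hk, Subgroup.relIndex] using h
      -- fibres of `y ↦ y x y⁻¹ x⁻¹`
      have hle : Pre.ncard ≤ Nat.card C * t k := by
        have hcomm : ∀ y ∈ Pre, y * x * y⁻¹ * x⁻¹ ∈ center G ∧
            (y * x * y⁻¹ * x⁻¹) ^ k = 1 := by
          intro y hy
          simp only [Pre, hst, Set.mem_ofPred_eq, MulAction.mem_stabilizer_iff, ConjAct.smul_def,
            ConjAct.ofConjAct_toConjAct, ← QuotientGroup.mk_inv, ← QuotientGroup.mk_mul] at hy
          have h1 : y * x * y⁻¹ * x⁻¹ ∈ center G := by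
            have := QuotientGroup.eq.mp hy.symm
            have h2 := (inferInstance : (center G).Normal).conj_mem _ this x
            simpa [mul_assoc] using h2
          refine ⟨h1, ?_⟩
          set l := y * x * y⁻¹ * x⁻¹ with hl
          have h3 : (l * x) ^ k = x ^ k := by
            rw [show l * x = y * x * y⁻¹ by rw [hl]; group, conj_pow,
              show y * x ^ k * y⁻¹ = x ^ k from by
                rw [Subgroup.mem_center_iff.mp hxk y, mul_inv_cancel_right]]
          rw [Commute.mul_pow (Subgroup.mem_center_iff.mp h1 x).symm k] at h3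
          exact mul_eq_right.mp h3
        have hR : Nat.card {a : center G // a ^ k = 1} ≤ t k :=
          H.rank (center G) (fun a _ b hb => Subgroup.mem_center_iff.mp hb a) k hk0
        let F : Pre → {a : center G // a ^ k = 1} := fun y =>
          ⟨⟨_, (hcomm y y.2).1⟩, Subtype.ext (hcomm y y.2).2⟩
        have hF : ∀ b, Nat.card {y : Pre // F y = b} ≤ Nat.card C := by
          intro b
          rcases isEmpty_or_nonempty {y : Pre // F y = b} with h | ⟨⟨y0⟩⟩
          · simp
          have he : ∀ y : {y : Pre // F y = b}, (y0.1.1)⁻¹ * y.1.1 ∈ C := by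
            intro y
            have h := congrArg (fun z : {a : center G // a ^ k = 1} => ((z.1 : center G) : G))
              (y.2.trans y0.2.symm)
            simp only [F, mul_left_inj] at h
            rw [hC, mem_centralizer_singleton_iff]
            calc y0.1.1⁻¹ * y.1.1 * x
                = y0.1.1⁻¹ * (y.1.1 * x * y.1.1⁻¹) * y.1.1 := by group
              _ = y0.1.1⁻¹ * (y0.1.1 * x * y0.1.1⁻¹) * y.1.1 := by rw [h]
              _ = x * (y0.1.1⁻¹ * y.1.1) := by group
          refine Nat.card_le_card_of_injective (fun y => (⟨_, he y⟩ : C)) fun a b hab => ?_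
          simp only [Subtype.mk.injEq, mul_right_inj] at hab
          exact Subtype.ext (Subtype.ext hab)
        rw [← Nat.card_coe_set_eq, ← Nat.card_congr (Equiv.sigmaFiberEquiv F)]
        have : Fintype {a : center G // a ^ k = 1} := Fintype.ofFinite _
        rw [Nat.card_sigma]
        refine (Finset.sum_le_sum fun b _ => hF b).trans ?_
        rw [Finset.sum_const, Finset.card_univ, smul_eq_mul, ← Nat.card_eq_fintype_card, mul_comm]
        exact Nat.mul_le_mul_left _ hR
      have hstle : Nat.card st ≤ c5 c t * K *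
          ∑ i ∈ Finset.range (c5 c t * K + c * KB c P t + 1), t i := by
        have h1 : zc G * Nat.card st ≤ zc G * (k * t k) := by
          rw [← hPre, ← mul_assoc, hCk]; exact hle
        refine (Nat.le_of_mul_le_mul_left h1 zc_pos).trans (Nat.mul_le_mul hkle ?_)
        exact Finset.single_le_sum (f := t) (fun _ _ => Nat.zero_le _)
          (Finset.mem_range.mpr (by omega))
      have : Finite (ConjAct (G ⧸ center G)) :=
        Finite.of_equiv _ ConjAct.toConjAct.toEquiv
      have hdvd : Nat.card st ∣ L0 c P t K := Nat.dvd_factorial Nat.card_pos hstle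
      have horb : Nat.card G =
          (MulAction.orbit (ConjAct (G ⧸ center G)) (x : G ⧸ center G)).ncard *
            (Nat.card st * zc G) := by
        rw [← MulAction.index_stabilizer, ← hst, ← mul_assoc, mul_comm st.index,
          Subgroup.card_mul_index]
        exact Subgroup.card_eq_card_quotient_mul_card_subgroup (center G)
      rw [horb]
      exact mul_dvd_mul_left _ (mul_dvd_mul_right hdvd _)
  rw [Finset.sum_const, smul_eq_mul] at hsum
  have hs : s.card = Sb.ncard := (Set.ncard_eq_toFinset_card _ _).symm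
  rw [hs] at hsum
  rw [hScard]
  convert hsum using 1
  ring

lemma Hyp.core_dvd (H : Hyp G c w P t) {K : ℕ} (𝒟 : Finset (Subgroup G))
    (h𝒟 : ∀ D, D ∈ 𝒟 ↔ IsCore c t P D ∧ zc G * K < Nat.card D) :
    Nat.card G ∣ (Wb c w t).factorial * ∑ D ∈ 𝒟, (TK K D).ncard := by
  rw [Finset.mul_sum]
  refine dvd_sum_of_orbit (H := ConjAct G) _ _ ?_ 𝒟 ?_ ?_
  · intro h D
    rw [conjAct_smul_eq_map, ncard_TK_map]
  · intro h D hD
    rw [h𝒟, conjAct_smul_eq_map, card_map] at *
    exact ⟨core_map _ hD.1, hD.2⟩
  · intro D hD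
    obtain ⟨hDc, -, -, hN⟩ := H.core_spec ((h𝒟 D).mp hD).1
    have hinv : ∀ x ∈ TK K D, ∀ d ∈ D, x * d ∈ TK K D := by
      intro x hx d hd
      simp only [TK, Set.mem_ofPred_eq] at hx ⊢
      have : centralizer {x * d} ⊓ D = centralizer {x} ⊓ D := by
        ext y
        simp only [Subgroup.mem_inf, mem_centralizer_singleton_iff]
        refine and_congr_left fun hy => ?_
        have hyd : y * d = d * y := (hDc y hy d hd).eq
        constructor
        · intro h
          apply mul_right_cancel (b := d)
          calc y * x * d = y * (x * d) := mul_assoc _ _ _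
            _ = x * d * y := h
            _ = x * y * d := by rw [mul_assoc, ← hyd, ← mul_assoc]
        · intro h
          rw [← mul_assoc, h, mul_assoc, hyd, ← mul_assoc]
      rwa [this]
    have hle : D ≤ normalizer (D : Set G) := Subgroup.le_normalizer
    obtain ⟨e, he⟩ := Subgroup.card_dvd_of_le hle
    have he0 : 0 < e := by
      rcases Nat.eq_zero_or_pos e with h | h
      · rw [h, mul_zero] at he
        exact absurd he (Nat.card_pos (α := normalizer (D : Set G))).ne'
      · exact h
    have hele : e ≤ Wb c w t := by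
      have h1 : Nat.card D * e ≤ Nat.card D * Wb c w t := by
        rw [← he, mul_comm (Nat.card D)]
        exact hN
      exact Nat.le_of_mul_le_mul_left h1 Nat.card_pos
    rw [← orbit_mul_normalizer D, he, ncard_eq_mul_of_invariant D _ hinv, ← mul_assoc,
      mul_comm (Wb c w t).factorial]
    rw [mul_assoc, mul_assoc]
    exact mul_dvd_mul_left _ (mul_dvd_mul_left _ (dvd_mul_of_dvd_right
      (Nat.dvd_factorial he0 hele) _))

lemma mem_TK_of_mem {K : ℕ} {D : Subgroup G} (hDc : Comm D) (hD : zc G * K < Nat.card D)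
    {x : G} (hx : x ∈ D) : x ∈ TK K D := by
  simp only [TK, Set.mem_ofPred_eq]
  rwa [inf_eq_right.mpr fun y hy => mem_centralizer_singleton_iff.mpr (hDc y hy x hx).eq]

lemma Hyp.card_values_le (H : Hyp G c w P t) (𝒞 : Finset (Subgroup G))
    (h𝒞 : ∀ D, D ∈ 𝒞 ↔ IsCore c t P D) :
    (𝒞.image fun D : Subgroup G => Nat.card D).card ≤ 2 * Wb c w t := by
  set W := Wb c w t
  have htot : ∑ D ∈ 𝒞, (Nat.card D - zc G) ≤ Nat.card G := by
    have : Fintype G := Fintype.ofFinite G
    have h1 : ∀ D ∈ 𝒞, Nat.card D - zc G ≤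
        (Finset.univ.filter fun x => x ∈ D ∧ x ∉ center G).card := by
      intro D hD
      have h2 : (Finset.univ.filter fun x => x ∈ D).card ≤
          (Finset.univ.filter fun x => x ∈ D ∧ x ∉ center G).card +
            (Finset.univ.filter fun x : G => x ∈ center G).card := by
        refine le_trans (Finset.card_le_card ?_) (Finset.card_union_le _ _)
        intro x hx
        by_cases hz : x ∈ center G <;> simp_all
      have h3 : ∀ E : Subgroup G, (Finset.univ.filter fun x => x ∈ E).card = Nat.card E := fun E => by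
        rw [Nat.card_eq_fintype_card, Fintype.card_subtype]
      rw [h3 D] at h2
      have h4 : (Finset.univ.filter fun x : G => x ∈ center G).card = Nat.card (center G) := by
        rw [Nat.card_eq_fintype_card, ← Fintype.card_subtype]
      rw [h4] at h2
      change Nat.card D - Nat.card (center G) ≤ _
      omega
    refine (Finset.sum_le_sum h1).trans ?_
    rw [← Finset.card_biUnion]
    · rw [Nat.card_eq_fintype_card]; exact Finset.card_le_univ _
    · intro D hD E hE hne
      rw [Function.onFun, Finset.disjoint_left]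
      intro x hx hx'
      simp only [Finset.mem_filter, Finset.mem_univ, true_and] at hx hx'
      exact hne (H.core_eq ((h𝒞 D).mp hD) ((h𝒞 E).mp hE) fun hcon => hx.2 (hcon ⟨hx.1, hx'.1⟩))
  have hv : ∀ v ∈ 𝒞.image (fun D : Subgroup G => Nat.card D),
      Nat.card G ≤ 2 * W * ∑ D ∈ 𝒞.filter (fun D : Subgroup G => Nat.card D = v), (Nat.card D - zc G) := by
    intro v hv
    obtain ⟨D, hD, rfl⟩ := Finset.mem_image.mp hv
    obtain ⟨-, -, hbig, hN⟩ := H.core_spec ((h𝒞 D).mp hD)
    have hsub : (MulAction.orbit (ConjAct G) D) ⊆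
        (𝒞.filter (fun E : Subgroup G => Nat.card E = Nat.card D) : Set (Subgroup G)) := by
      rintro _ ⟨h, rfl⟩
      simp only [Finset.coe_filter, Set.mem_ofPred_eq, h𝒞, conjAct_smul_eq_map, card_map, and_true]
      exact core_map _ ((h𝒞 D).mp hD)
    have h1 : (MulAction.orbit (ConjAct G) D).ncard ≤
        (𝒞.filter (fun E : Subgroup G => Nat.card E = Nat.card D)).card := by
      rw [← Set.ncard_coe_finset]; exact Set.ncard_le_ncard hsub (Finset.finite_toSet _)
    rw [Finset.sum_congr rfl (fun E hE => by rw [(Finset.mem_filter.mp hE).2]),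
      Finset.sum_const, smul_eq_mul, ← orbit_mul_normalizer D]
    have h2 : Nat.card D ≤ 2 * (Nat.card D - zc G) := by
      have h3 : zc G * 2 ≤ zc G * (t P + 1) := Nat.mul_le_mul_left _ (by have := H.tpos P; omega)
      omega
    calc (MulAction.orbit (ConjAct G) D).ncard * Nat.card (normalizer (D : Set G))
        ≤ (𝒞.filter (fun E : Subgroup G => Nat.card E = Nat.card D)).card * (W * Nat.card D) :=
          Nat.mul_le_mul h1 hN
      _ ≤ (𝒞.filter (fun E : Subgroup G => Nat.card E = Nat.card D)).card *
            (W * (2 * (Nat.card D - zc G))) := by gcongr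
      _ = _ := by ring
  have h := Finset.sum_le_sum hv
  rw [Finset.sum_const, smul_eq_mul, ← Finset.mul_sum,
    Finset.sum_fiberwise_of_maps_to (fun D hD => Finset.mem_image_of_mem _ hD)] at h
  exact Nat.le_of_mul_le_mul_right (h.trans (Nat.mul_le_mul_left _ htot)) Nat.card_pos

end

/-- the divisor bound at threshold `K` -/
def Lb (c w P : ℕ) (t : ℕ → ℕ) (K : ℕ) : ℕ := L0 c P t K * (Wb c w t).factorial

/-- the thresholds -/
def Ks (c w P : ℕ) (t : ℕ → ℕ) : ℕ → ℕ
  | 0 => c * KB c P t + c5 c t + 1
  | j + 1 => Ks c w P t j + Lb c w P t (Ks c w P t j) + 2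

/-- the final bound -/
def bound (c w P : ℕ) (t : ℕ → ℕ) : ℕ :=
  Wb c w t + ∑ j ∈ Finset.range (2 * Wb c w t + 1), Lb c w P t (Ks c w P t j)

lemma Ks_mono (c w P : ℕ) (t : ℕ → ℕ) : StrictMono (Ks c w P t) :=
  strictMono_nat_of_lt_succ fun j => by
    show Ks c w P t j < Ks c w P t j + Lb c w P t (Ks c w P t j) + 2
    omega

/-- **The core theorem**: an abelian subgroup of bounded index. -/
theorem exists_comm_card_le {G : Type*} [Group G] [Finite G] {c w P : ℕ} {t : ℕ → ℕ}
    (H : Hyp G c w P t) :
    ∃ A : Subgroup G, Comm A ∧ Nat.card G ≤ bound c w P t * Nat.card A := by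
  have : Fintype G := Fintype.ofFinite G
  have : Fintype (Subgroup G) := Fintype.ofFinite _
  set 𝒞 := (Finset.univ : Finset (Subgroup G)).filter (fun D => IsCore c t P D) with h𝒞
  set V := 𝒞.image fun D : Subgroup G => Nat.card D with hVdef
  have hV : V.card ≤ 2 * Wb c w t := H.card_values_le 𝒞 (fun D => by simp [h𝒞])
  -- a threshold in a gap
  obtain ⟨j, hj, hgap⟩ : ∃ j ∈ Finset.range (2 * Wb c w t + 1), ∀ v ∈ V,
      zc G * Ks c w P t j < v → zc G * Ks c w P t (j + 1) < v := by
    by_contra hcon
    push Not at hcon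
    choose! v hv1 hv2 hv3 using hcon
    have hcard : (Finset.range (2 * Wb c w t + 1)).card ≤ V.card := by
      refine Finset.card_le_card_of_injOn v (fun j hj => hv1 j hj) ?_
      intro a ha b hb hab
      rcases lt_trichotomy a b with h | h | h
      · exfalso
        have h1 := Nat.mul_le_mul_left (zc G) ((Ks_mono c w P t).monotone (Nat.succ_le_of_lt h))
        have h2 := hv3 a ha
        have h3 := hv2 b hb
        simp only [Nat.succ_eq_add_one] at h1
        rw [hab] at h2
        omega
      · exact h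
      · exfalso
        have h1 := Nat.mul_le_mul_left (zc G) ((Ks_mono c w P t).monotone (Nat.succ_le_of_lt h))
        have h2 := hv3 b hb
        have h3 := hv2 a ha
        simp only [Nat.succ_eq_add_one] at h1
        rw [← hab] at h2
        omega
    rw [Finset.card_range] at hcard
    omega
  set K := Ks c w P t j with hK
  have hK0 : c * KB c P t + c5 c t + 1 ≤ K := (Ks_mono c w P t).monotone (Nat.zero_le j)
  set L := Lb c w P t K with hL
  have hLB : Wb c w t + L ≤ bound c w P t :=
    Nat.add_le_add_left (Finset.single_le_sum (f := fun i => Lb c w P t (Ks c w P t i))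
      (fun _ _ => Nat.zero_le _) hj) _
  set 𝒟 := 𝒞.filter (fun D : Subgroup G => zc G * K < Nat.card D) with h𝒟
  have hmem : ∀ D, D ∈ 𝒟 ↔ IsCore c t P D ∧ zc G * K < Nat.card D :=
    fun D => by simp [h𝒟, h𝒞]
  set Q := 𝒟.card with hQ
  set S := SK (G := G) c t P K with hS
  -- the partition
  have hid : Nat.card G + Q * zc G = zc G + S.ncard + ∑ D ∈ 𝒟, (TK K D).ncard := by
    have hpt : ∀ x : G, 1 + (if x ∈ center G then Q else 0) =
        (if x ∈ center G then 1 else 0) + (if x ∈ S then 1 else 0) +
          ∑ D ∈ 𝒟, (if x ∈ TK K D then 1 else 0) := by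
      intro x
      by_cases hx : x ∈ center G
      · have h1 : x ∉ S := fun h => h.1 hx
        have h2 : ∀ D ∈ 𝒟, x ∈ TK K D := fun D hD => by
          obtain ⟨h, h'⟩ := (hmem D).mp hD
          exact mem_TK_of_mem (H.core_spec h).1 h' ((H.core_spec h).2.1 hx)
        rw [if_pos hx, if_pos hx, if_neg h1, Finset.sum_congr rfl (fun D hD => if_pos (h2 D hD))]
        simp [hQ]
      · rw [if_neg hx, if_neg hx]
        by_cases hxS : x ∈ S
        · rw [if_pos hxS, Finset.sum_eq_zero fun D hD => if_neg (hxS.2 D ((hmem D).mp hD).1)]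
        · obtain ⟨D, hD, hxD⟩ : ∃ D, IsCore c t P D ∧ x ∈ TK K D := by
            by_contra hcon
            exact hxS ⟨hx, fun D hD hxD => hcon ⟨D, hD, hxD⟩⟩
          have hDm : D ∈ 𝒟 := (hmem D).mpr ⟨hD,
            lt_of_lt_of_le (show zc G * K < _ from hxD) (Subgroup.card_le_of_le inf_le_right)⟩
          rw [if_neg hxS, Finset.sum_eq_single_of_mem D hDm (fun E hE hne => if_neg fun h => hne
            (H.tk_unique (by omega) (by omega) hx ((hmem E).mp hE).1 hD h hxD)), if_pos hxD]
    have hsum := Finset.sum_congr (s₁ := (Finset.univ : Finset G)) rfl (fun x _ => hpt x)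
    simp only [Finset.sum_add_distrib] at hsum
    rw [Finset.sum_comm] at hsum
    have e : ∀ (T : Set G) (m : ℕ), (∑ x : G, if x ∈ T then m else 0) = T.ncard * m := fun T m => by
      rw [← Finset.sum_filter, Finset.sum_const, smul_eq_mul]
      congr 1
      rw [Set.ncard_eq_toFinset_card']
      congr 1
      ext; simp
    have ez : ∀ m : ℕ, (∑ x : G, if x ∈ center G then m else 0) = zc G * m := fun m => by
      have := e (center G : Set G) m
      rw [← Nat.card_coe_set_eq] at this
      simpa [zc] using this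
    simp only [e, ez, mul_one, Finset.sum_const, Finset.card_univ, smul_eq_mul] at hsum
    rw [Nat.card_eq_fintype_card, mul_comm Q]
    exact hsum
  have hdvd : Nat.card G ∣ L * (S.ncard + ∑ D ∈ 𝒟, (TK K D).ncard) := by
    rw [hL, mul_add]
    unfold Lb
    apply dvd_add
    · rw [mul_right_comm]
      exact dvd_mul_of_dvd_left (H.small_dvd (by omega)) _
    · rw [mul_assoc]
      exact dvd_mul_of_dvd_right (H.core_dvd 𝒟 hmem) _
  rcases Nat.lt_or_ge Q 1 with hQ0 | hQ1
  · -- no large core
    refine ⟨center G, fun a _ b hb => Subgroup.mem_center_iff.mp hb a, ?_⟩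
    have hQ' : Q = 0 := by omega
    rw [hQ', zero_mul, add_zero] at hid
    have h1 : Nat.card G ∣ L * zc G := by
      have h2 : Nat.card G ∣ L * Nat.card G := dvd_mul_left _ _
      nth_rewrite 2 [hid] at h2
      rw [add_assoc, mul_add] at h2
      exact (Nat.dvd_add_left hdvd).mp h2
    have hLpos : 0 < L := Nat.mul_pos (Nat.factorial_pos _) (Nat.factorial_pos _)
    calc Nat.card G ≤ L * zc G := Nat.le_of_dvd (Nat.mul_pos hLpos zc_pos) h1
      _ ≤ bound c w P t * zc G := Nat.mul_le_mul_right _ (le_trans (Nat.le_add_left _ _) hLB)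
  rcases Nat.lt_or_ge Q 2 with hQ2 | hQ2
  · -- a single large core, necessarily normal
    obtain ⟨D, hD⟩ := Finset.card_pos.mp (show 0 < 𝒟.card by omega)
    obtain ⟨hDc, -, -, hN⟩ := H.core_spec ((hmem D).mp hD).1
    have hfix : ∀ g : ConjAct G, g • D = D := fun g => by
      refine Finset.card_le_one.mp (show 𝒟.card ≤ 1 by omega) _ ?_ _ hD
      rw [hmem, conjAct_smul_eq_map, card_map]
      exact ⟨core_map _ ((hmem D).mp hD).1, ((hmem D).mp hD).2⟩
    have horb : (MulAction.orbit (ConjAct G) D).ncard = 1 := by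
      have : MulAction.orbit (ConjAct G) D = {D} := by
        ext E
        simp only [MulAction.mem_orbit_iff, hfix, Set.mem_singleton_iff]
        exact ⟨fun ⟨_, h⟩ => h.symm, fun h => ⟨1, h.symm⟩⟩
      rw [this, Set.ncard_singleton]
    refine ⟨D, hDc, ?_⟩
    rw [← orbit_mul_normalizer D, horb, one_mul]
    exact hN.trans (Nat.mul_le_mul_right _ (le_trans (Nat.le_add_right _ _) hLB))
  · -- two large cores are impossible
    exfalso
    obtain ⟨Q', hQ'⟩ : ∃ Q', Q = Q' + 1 := ⟨Q - 1, by omega⟩
    have h1 : Nat.card G ∣ L * (Q' * zc G) := by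
      have h2 : S.ncard + ∑ D ∈ 𝒟, (TK K D).ncard = Nat.card G + Q' * zc G := by
        rw [hQ', add_mul] at hid
        omega
      rw [h2, mul_add] at hdvd
      exact (Nat.dvd_add_right (dvd_mul_left _ _)).mp hdvd
    have hLpos : 0 < L := Nat.mul_pos (Nat.factorial_pos _) (Nat.factorial_pos _)
    have h3 : Nat.card G ≤ L * (Q' * zc G) :=
      Nat.le_of_dvd (Nat.mul_pos hLpos (Nat.mul_pos (by omega) zc_pos)) h1
    have h4 : Q * (zc G * (K + L + 2)) ≤ ∑ D ∈ 𝒟, (TK K D).ncard := by
      rw [hQ, ← smul_eq_mul, ← Finset.sum_const]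
      refine Finset.sum_le_sum fun D hD => ?_
      obtain ⟨h, h'⟩ := (hmem D).mp hD
      have h5 := hgap (Nat.card D) (Finset.mem_image_of_mem _ (Finset.mem_filter.mp hD).1) h'
      refine le_trans h5.le ?_
      rw [← Nat.card_coe_set_eq]
      exact Nat.card_le_card_of_injective
        (fun x : D => (⟨x, mem_TK_of_mem (H.core_spec h).1 h' x.2⟩ : TK K D))
        fun a b hab => Subtype.ext (congrArg (fun y : TK K D => (y : G)) hab)
    have h6 : L * (Q' * zc G) + Q * zc G < Q * (zc G * (K + L + 2)) := by
      have h7 : L * (Q' * zc G) ≤ L * (Q * zc G) := by rw [hQ']; gcongr; omega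
      have h8 : 0 < Q * zc G := Nat.mul_pos (by omega) zc_pos
      nlinarith
    omega

end Cfsg.BrauerFeit
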