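import Cfsg.Agent.Lib.BrauerFeit.Count

/-!
# The Brauer–Feit theorem on linear groups with a bounded Sylow subgroup
-/

set_option autoImplicit false
open scoped Classical
open Subgroup

namespace Cfsg.BrauerFeit

universe u v

/-- the `p`-part of the order is at most `p ^ m` -/
def Small (p m : ℕ) (G : Type*) : Prop := (Nat.card G).factorization p ≤ m

lemma Small.of_dvd {p m : ℕ} {G H : Type*} [Finite G] [Nonempty G] (h : Small p m G)
    (hd : Nat.card H ∣ Nat.card G) : Small p m H := by
  rcases Nat.eq_zero_or_pos (Nat.card H) with h0 | h0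
  · exact absurd (h0 ▸ hd : 0 ∣ Nat.card G) (by
      rw [zero_dvd_iff]; exact (Nat.card_pos (α := G)).ne')
  · exact le_trans ((Nat.factorization_le_iff_dvd h0.ne' (Nat.card_pos (α := G)).ne').mpr hd p) h

lemma pow_pm_eq_one {p m : ℕ} [Fact p.Prime] {G : Type*} [Group G] [Finite G] (h : Small p m G)
    {x : G} {k : ℕ} (hx : x ^ p ^ k = 1) : x ^ p ^ m = 1 := by
  have hp : p.Prime := Fact.out
  obtain ⟨i, -, hi⟩ := (Nat.dvd_prime_pow hp).mp (orderOf_dvd_of_pow_eq_one hx)
  have him : i ≤ m := le_trans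
    ((hp.pow_dvd_iff_le_factorization (Nat.card_pos (α := G)).ne').mp
      (hi ▸ orderOf_dvd_natCard x)) h
  exact orderOf_dvd_iff_pow_eq_one.mp (hi ▸ pow_dvd_pow p him)

lemma card_pGroup_le {p m : ℕ} [Fact p.Prime] {G : Type*} [Group G] [Finite G] (h : Small p m G)
    {U : Subgroup G} (hU : IsPGroup p U) : Nat.card U ≤ p ^ m := by
  have hp : p.Prime := Fact.out
  obtain ⟨i, hi⟩ := IsPGroup.iff_card.mp hU
  rw [hi]
  refine Nat.pow_le_pow_right hp.pos (le_trans
    ((hp.pow_dvd_iff_le_factorization (Nat.card_pos (α := G)).ne').mp ?_) h)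
  exact hi ▸ Subgroup.card_subgroup_dvd_card U

section Weights

variable {G : Type*} [Group G] {K : Type*} [Field K] {V : Type*} [AddCommGroup V] [Module K V]
  (ρ : Representation K G V)

/-- the weights of a subgroup -/
def weights (A : Subgroup G) : Set (A → K) :=
  {χ | ∃ v : V, v ≠ 0 ∧ ∀ a : A, ρ (a : G) v = χ a • v}

variable {ρ}

lemma weight_mul {A : Subgroup G} {χ : A → K} (h : χ ∈ weights ρ A) (a b : A) :
    χ (a * b) = χ a * χ b := by
  obtain ⟨v, hv, hχ⟩ := h
  apply smul_left_injective K hv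
  show χ (a * b) • v = (χ a * χ b) • v
  rw [← hχ, Subgroup.coe_mul, map_mul, Module.End.mul_apply, hχ b, map_smul, hχ a, smul_smul,
    mul_comm]

lemma weight_one {A : Subgroup G} {χ : A → K} (h : χ ∈ weights ρ A) : χ 1 = 1 := by
  obtain ⟨v, hv, hχ⟩ := h
  apply smul_left_injective K hv
  show χ 1 • v = (1 : K) • v
  rw [← hχ, one_smul, Subgroup.coe_one, map_one, Module.End.one_apply]

variable [FiniteDimensional K V]

lemma weights_finite_card (A : Subgroup G) :
    (weights ρ A).Finite ∧ (weights ρ A).ncard ≤ Module.finrank K V := by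
  choose v hv hχ using fun χ : weights ρ A => χ.2
  have hli : LinearIndependent K v := by
    rw [linearIndependent_iff']
    intro s
    induction s using Finset.induction with
    | empty => simp
    | @insert χ₀ s hχ₀ ih =>
      intro g hg
      rw [Finset.sum_insert hχ₀] at hg
      have hs : ∀ χ ∈ s, g χ = 0 := by
        intro χ hχs
        obtain ⟨a, ha⟩ : ∃ a, (χ : A → K) a ≠ (χ₀ : A → K) a := by
          by_contra hcon
          push Not at hcon
          exact hχ₀ ((Subtype.ext (funext hcon) : χ = χ₀) ▸ hχs)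
        have h1 : ∑ i ∈ s, (g i * ((i : A → K) a - (χ₀ : A → K) a)) • v i = 0 := by
          have h2 := congrArg (fun w => ρ (a : G) w - (χ₀ : A → K) a • w) hg
          simp only [map_add, map_sum, map_smul, hχ, map_zero, smul_zero, sub_zero, smul_add,
            Finset.smul_sum, smul_smul] at h2
          rw [← h2]
          simp only [mul_sub, sub_smul, Finset.sum_sub_distrib]
          simp only [mul_comm ((χ₀ : A → K) a)]
          abel
        exact (mul_eq_zero.mp (ih _ h1 χ hχs)).resolve_right (sub_ne_zero.mpr ha)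
      intro i hi
      rcases Finset.mem_insert.mp hi with rfl | hi
      · rw [Finset.sum_eq_zero (fun j hj => by rw [hs j hj, zero_smul]), add_zero] at hg
        exact (smul_eq_zero.mp hg).resolve_right (hv i)
      · exact hs i hi
  have hfin : Finite (weights ρ A) := hli.finite
  have : Fintype (weights ρ A) := Fintype.ofFinite _
  refine ⟨Set.finite_coe_iff.mp hfin, ?_⟩
  rw [← Nat.card_coe_set_eq, Nat.card_eq_fintype_card]
  exact hli.fintype_card_le_finrank

variable [IsAlgClosed K]

lemma exists_weight {A : Subgroup G} (hA : Comm A) :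
    ∀ W : Submodule K V, W ≠ ⊥ → (∀ a : A, ∀ v ∈ W, ρ (a : G) v ∈ W) →
      ∃ χ ∈ weights ρ A, ∃ v ∈ W, v ≠ 0 ∧ ∀ a : A, ρ (a : G) v = χ a • v := by
  intro W
  induction hd : Module.finrank K W using Nat.strong_induction_on generalizing W with
  | _ d ih =>
    intro hW hinv
    by_cases hsc : ∀ a : A, ∃ μ : K, ∀ v ∈ W, ρ (a : G) v = μ • v
    · choose χ hχ using hsc
      obtain ⟨v, hv, hv0⟩ := Submodule.exists_mem_ne_zero_of_ne_bot hW
      exact ⟨χ, ⟨v, hv0, fun a => hχ a v hv⟩, v, hv, hv0, fun a => hχ a v hv⟩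
    push Not at hsc
    obtain ⟨a, ha⟩ := hsc
    have : Nontrivial W := Submodule.nontrivial_iff_ne_bot.mpr hW
    obtain ⟨μ, hμ⟩ := Module.End.exists_eigenvalue ((ρ (a : G)).restrict (hinv a))
    obtain ⟨w, hw⟩ := hμ.exists_hasEigenvector
    let W' : Submodule K V := W ⊓ LinearMap.ker (ρ (a : G) - μ • 1)
    have hmem : ∀ u, u ∈ W' ↔ u ∈ W ∧ ρ (a : G) u = μ • u := fun u => by
      simp [W', sub_eq_zero]
    have hlt : W' < W := by
      refine lt_of_le_of_ne inf_le_left fun heq => ?_
      obtain ⟨u, hu, hu'⟩ := ha μ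
      exact hu' ((hmem u).mp (heq.symm ▸ hu)).2
    have hne : W' ≠ ⊥ := by
      refine (Submodule.ne_bot_iff _).mpr ⟨w, (hmem _).mpr ⟨w.2, ?_⟩, fun h => hw.2 (Subtype.ext h)⟩
      exact congrArg (fun z : W => (z : V)) hw.apply_eq_smul
    have hinv' : ∀ b : A, ∀ u ∈ W', ρ (b : G) u ∈ W' := by
      intro b u hu
      rw [hmem] at hu ⊢
      refine ⟨hinv b u hu.1, ?_⟩
      rw [← Module.End.mul_apply, ← map_mul, (hA a a.2 b b.2).eq, map_mul, Module.End.mul_apply,
        hu.2, map_smul]
    obtain ⟨χ, hχ, v, hv, hv0, hva⟩ :=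
      ih (Module.finrank K W') (hd ▸ Submodule.finrank_lt_finrank_of_lt hlt) W' rfl hne hinv'
    exact ⟨χ, hχ, v, hlt.le hv, hv0, hva⟩

variable [Finite G] {p m : ℕ} [Fact p.Prime] [CharP K p]

lemma pow_pm_eq_one_of_weights (hinj : Function.Injective ρ) (hm : Small p m G)
    {A : Subgroup G} (hA : Comm A) {a : A} (ha : ∀ χ ∈ weights ρ A, χ a = 1) :
    (a : G) ^ p ^ m = 1 := by
  rcases subsingleton_or_nontrivial V with hV | hV
  · have : (a : G) = 1 := hinj (LinearMap.ext fun v => Subsingleton.elim _ _)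
    simp [this]
  set f : Module.End K V := ρ (a : G) - 1 with hf
  have hev : ∀ μ, f.HasEigenvalue μ → μ = 0 := by
    intro μ hμ
    obtain ⟨w, hw⟩ := hμ.exists_hasEigenvector
    let W : Submodule K V := LinearMap.ker (ρ (a : G) - (μ + 1) • 1)
    have hmem : ∀ u, u ∈ W ↔ ρ (a : G) u = (μ + 1) • u := fun u => by simp [W, sub_eq_zero]
    have hwW : w ∈ W := by
      rw [hmem, add_smul, one_smul]
      have := hw.apply_eq_smul
      simp only [hf, LinearMap.sub_apply, Module.End.one_apply] at this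
      exact sub_eq_iff_eq_add.mp this
    obtain ⟨χ, hχ, v, hv, hv0, hva⟩ := exists_weight hA W
      ((Submodule.ne_bot_iff _).mpr ⟨w, hwW, hw.2⟩) (fun b u hu => by
        rw [hmem] at hu ⊢
        rw [← Module.End.mul_apply, ← map_mul, (hA a a.2 b b.2).eq, map_mul,
          Module.End.mul_apply, hu, map_smul])
    have h1 := hva a
    rw [ha χ hχ, (hmem v).mp hv] at h1
    simpa using smul_left_injective K hv0 h1
  obtain ⟨k, hk⟩ : ∃ k, f ^ k = 0 := by
    refine ⟨(minpoly K f).natDegree, ?_⟩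
    have hsp : (minpoly K f).Splits := IsAlgClosed.splits _
    have hmon := minpoly.monic (Algebra.IsIntegral.isIntegral (R := K) f)
    have hroots : ∀ r ∈ (minpoly K f).roots, r = 0 := fun r hr =>
      hev r (Module.End.hasEigenvalue_iff_isRoot.mpr (Polynomial.isRoot_of_mem_roots hr))
    have heq : minpoly K f = Polynomial.X ^ (minpoly K f).natDegree := by
      conv_lhs => rw [hsp.eq_prod_roots_of_monic hmon]
      rw [Multiset.eq_replicate_card.mpr hroots, Multiset.map_replicate, Multiset.prod_replicate,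
        map_zero, sub_zero, hsp.natDegree_eq_card_roots]
    have h := minpoly.aeval K f
    rw [heq] at h
    simpa using h
  apply pow_pm_eq_one hm (k := k)
  apply hinj
  have hp : p.Prime := Fact.out
  have : CharP (Module.End K V) p :=
    charP_of_injective_algebraMap (algebraMap K (Module.End K V)).injective p
  have h1 : f ^ p ^ k = 0 :=
    pow_eq_zero_of_le (Nat.lt_pow_self hp.one_lt).le hk
  rw [hf, sub_pow_char_pow_of_commute (p := p) k (Commute.one_right _), one_pow, sub_eq_zero] at h1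
  rw [map_pow, map_one, h1]

lemma rank_bound (hinj : Function.Injective ρ) (hm : Small p m G)
    {A : Subgroup G} (hA : Comm A) (N : ℕ) (hN : 0 < N) :
    Nat.card {a : A // a ^ N = 1} ≤ N ^ Module.finrank K V * p ^ m := by
  obtain ⟨hfin, hcard⟩ := weights_finite_card (ρ := ρ) A
  have := hfin.to_subtype
  let R := {r : K // r ^ N = 1}
  have hRN : Nat.card R ≤ N ∧ Finite R := by
    have hset : {r : K | r ^ N = 1} = ((Polynomial.nthRootsFinset N (1 : K)) : Set K) := by
      ext r; simp [Polynomial.mem_nthRootsFinset hN]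
    refine ⟨?_, (Set.finite_coe_iff (s := {r : K | r ^ N = 1})).mpr (hset ▸ Finset.finite_toSet _)⟩
    show Nat.card {r : K | r ^ N = 1} ≤ N
    rw [Nat.card_coe_set_eq, hset, Set.ncard_coe_finset, Polynomial.nthRootsFinset_def]
    exact (Multiset.toFinset_card_le _).trans (Polynomial.card_nthRoots _ _)
  have := hRN.2
  have hpow : ∀ χ ∈ weights ρ A, ∀ (a : A) (n : ℕ), χ (a ^ n) = χ a ^ n := by
    intro χ hχ a n
    induction n with
    | zero => simp [weight_one hχ]
    | succ n ih => rw [pow_succ, pow_succ, weight_mul hχ, ih]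
  let F : {a : A // a ^ N = 1} → (weights ρ A → R) := fun a χ =>
    ⟨(χ : A → K) a.1, by rw [← hpow _ χ.2, a.2, weight_one χ.2]⟩
  -- the kernel
  let U : Subgroup G :=
    { carrier := {x | ∃ h : x ∈ A, ∀ χ ∈ weights ρ A, χ ⟨x, h⟩ = 1}
      one_mem' := ⟨one_mem _, fun χ hχ => weight_one hχ⟩
      mul_mem' := by
        rintro x y ⟨hx, hx'⟩ ⟨hy, hy'⟩
        exact ⟨mul_mem hx hy, fun χ hχ => by
          rw [show (⟨x * y, mul_mem hx hy⟩ : A) = ⟨x, hx⟩ * ⟨y, hy⟩ from rfl, weight_mul hχ,
            hx' χ hχ, hy' χ hχ, one_mul]⟩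
      inv_mem' := by
        rintro x ⟨hx, hx'⟩
        refine ⟨inv_mem hx, fun χ hχ => ?_⟩
        have h := weight_mul hχ (⟨x, hx⟩ : A) ⟨x⁻¹, inv_mem hx⟩
        rw [hx' χ hχ, one_mul, show (⟨x, hx⟩ : A) * ⟨x⁻¹, inv_mem hx⟩ = 1 from
          Subtype.ext (mul_inv_cancel x), weight_one hχ] at h
        exact h.symm }
  have hU : IsPGroup p U := fun ⟨x, hx, hx'⟩ =>
    ⟨m, Subtype.ext (pow_pm_eq_one_of_weights hinj hm hA (a := ⟨x, hx⟩) hx')⟩
  have hfib : ∀ b, Nat.card {a // F a = b} ≤ p ^ m := by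
    intro b
    rcases isEmpty_or_nonempty {a // F a = b} with h | ⟨⟨a0⟩⟩
    · simp
    have he : ∀ a : {a // F a = b}, ((a0.1.1)⁻¹ * a.1.1 : A).1 ∈ U := fun a => by
      refine ⟨((a0.1.1)⁻¹ * a.1.1).2, fun χ hχ => ?_⟩
      show χ ((a0.1.1)⁻¹ * a.1.1) = 1
      have h : χ a.1.1 = χ a0.1.1 :=
        congrArg (fun r : R => (r : K)) (congrFun (a.2.trans a0.2.symm) ⟨χ, hχ⟩)
      rw [weight_mul hχ, h, ← weight_mul hχ, inv_mul_cancel, weight_one hχ]
    refine le_trans ?_ (card_pGroup_le hm hU)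
    refine Nat.card_le_card_of_injective (fun a => (⟨_, he a⟩ : U)) fun a a' h => ?_
    simp only [Subtype.mk.injEq] at h
    exact Subtype.ext (Subtype.ext (mul_left_cancel (Subtype.ext h)))
  rw [← Nat.card_congr (Equiv.sigmaFiberEquiv F)]
  have : Fintype (weights ρ A → R) := Fintype.ofFinite _
  rw [Nat.card_sigma]
  refine (Finset.sum_le_sum fun b _ => hfib b).trans ?_
  rw [Finset.sum_const, Finset.card_univ, smul_eq_mul, ← Nat.card_eq_fintype_card, Nat.card_fun]
  refine Nat.mul_le_mul_right _ ?_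
  calc Nat.card R ^ Nat.card (weights ρ A) ≤ N ^ Nat.card (weights ρ A) :=
        Nat.pow_le_pow_left hRN.1 _
    _ ≤ N ^ Module.finrank K V := Nat.pow_le_pow_right hN (by rwa [Nat.card_coe_set_eq])

lemma aut_bound (hinj : Function.Injective ρ) (hm : Small p m G)
    {A : Subgroup G} (hA : Comm A) :
    ∃ L : Subgroup G, L ≤ normalizer (A : Set G) ∧
      Nat.card (normalizer (A : Set G)) ≤ (Module.finrank K V).factorial * Nat.card L ∧
      ∀ s ∈ L, ∀ d ∈ A, Commute s (d ^ p ^ m) := by
  obtain ⟨hfin, hcard⟩ := weights_finite_card (ρ := ρ) A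
  have := hfin.to_subtype
  let N := normalizer (A : Set G)
  have hconj : ∀ (s : N) (a : A), (s : G)⁻¹ * a * s ∈ A := fun s a =>
    (Subgroup.mem_normalizer_iff''.mp s.2 a).mp a.2
  let tw : N → (A → K) → (A → K) := fun s χ a => χ ⟨_, hconj s a⟩
  have htw : ∀ (s : N), ∀ χ ∈ weights ρ A, tw s χ ∈ weights ρ A := by
    rintro s χ ⟨v, hv, hχ⟩
    refine ⟨ρ (s : G) v, fun h => hv ?_, fun a => ?_⟩
    · have := congrArg (ρ (s : G)⁻¹) h
      rwa [← Module.End.mul_apply, ← map_mul, inv_mul_cancel, map_one, map_zero,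
        Module.End.one_apply] at this
    · show ρ (a : G) (ρ (s : G) v) = χ ⟨_, hconj s a⟩ • ρ (s : G) v
      rw [← map_smul, ← hχ ⟨_, hconj s a⟩, ← Module.End.mul_apply, ← Module.End.mul_apply,
        ← map_mul, ← map_mul]
      congr 2
      simp only [mul_assoc, mul_inv_cancel_left]
  have htw1 : ∀ χ, tw 1 χ = χ := fun χ => funext fun a => congrArg χ (by ext; simp)
  have htw2 : ∀ s s' χ, tw (s * s') χ = tw s (tw s' χ) := fun s s' χ =>
    funext fun a => congrArg χ (by ext; simp [mul_assoc])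
  let φ : N →* Equiv.Perm (weights ρ A) :=
    { toFun := fun s =>
        { toFun := fun χ => ⟨tw s χ, htw s χ χ.2⟩
          invFun := fun χ => ⟨tw s⁻¹ χ, htw s⁻¹ χ χ.2⟩
          left_inv := fun χ => Subtype.ext (by
            show tw s⁻¹ (tw s χ) = χ
            rw [← htw2, inv_mul_cancel, htw1])
          right_inv := fun χ => Subtype.ext (by
            show tw s (tw s⁻¹ χ) = χ
            rw [← htw2, mul_inv_cancel, htw1]) }
      map_one' := Equiv.ext fun χ => Subtype.ext (htw1 χ)
      map_mul' := fun s s' => Equiv.ext fun χ => Subtype.ext (htw2 s s' χ) }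
  refine ⟨φ.ker.map N.subtype, Subgroup.map_subtype_le _, ?_, ?_⟩
  · rw [Subgroup.card_subtype, ← Subgroup.card_mul_index φ.ker, Subgroup.index_ker, mul_comm]
    gcongr
    refine (Subgroup.card_le_card_group _).trans ?_
    rw [Nat.card_perm]
    exact Nat.factorial_le (by rwa [Nat.card_coe_set_eq])
  · rintro _ ⟨s, hs, rfl⟩ d hd
    set d' : A := ⟨_, hconj s ⟨d, hd⟩⟩ with hd'
    have hw : ∀ χ ∈ weights ρ A, χ d' = χ ⟨d, hd⟩ := fun χ hχ => by
      have := congrArg Subtype.val (Equiv.congr_fun (MonoidHom.mem_ker.mp hs) ⟨χ, hχ⟩)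
      exact congrFun this ⟨d, hd⟩
    have h1 : (((⟨d, hd⟩ : A)⁻¹ * d' : A) : G) ^ p ^ m = 1 :=
      pow_pm_eq_one_of_weights hinj hm hA fun χ hχ => by
        rw [weight_mul hχ, hw χ hχ, ← weight_mul hχ, inv_mul_cancel, weight_one hχ]
    have hc : Commute d⁻¹ ((d' : A) : G) := (hA d hd _ d'.2).inv_left
    rw [Subgroup.coe_mul, Subgroup.coe_inv, hc.mul_pow, inv_pow, inv_mul_eq_one] at h1
    change Commute (s : G) (d ^ p ^ m)
    rw [hd'] at h1
    simp only at h1
    have h2 : (s : G)⁻¹ * d ^ p ^ m * s = d ^ p ^ m := by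
      rw [show (s : G)⁻¹ * d ^ p ^ m * s = ((s : G)⁻¹ * d * s) ^ p ^ m by
        rw [show (s : G)⁻¹ * d * s = (s : G)⁻¹ * d * ((s : G)⁻¹)⁻¹ by rw [inv_inv], conj_pow,
          inv_inv]]
      exact h1.symm
    exact (show (s : G) * d ^ p ^ m = d ^ p ^ m * s from by
      nth_rewrite 1 [← h2]
      group)

end Weights

/-- from a commutative-modulo-small group to a commutative subgroup -/
lemma comm_of_mod_small {p m : ℕ} [Fact p.Prime] {B : Type*} [Group B] [Finite B]
    (hm : Small p m B) (U : Subgroup B) [U.Normal] (hU : IsPGroup p U)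
    (hab : ∀ x y : B, x * y * x⁻¹ * y⁻¹ ∈ U) :
    ∃ A : Subgroup B, Comm A ∧ Nat.card B ≤ (p ^ m).factorial * p ^ m * Nat.card A := by
  -- `B₀` centralizes `U`
  let actU : B →* Equiv.Perm U :=
    { toFun := fun b => ((MulAut.conjNormal b : MulAut U)).toEquiv
      map_one' := by ext x; simp
      map_mul' := fun a b => by ext x; simp }
  set B₀ := actU.ker with hB₀
  have hB₀cent : ∀ b ∈ B₀, ∀ u ∈ U, Commute b u := by
    intro b hb u hu
    have := congrArg Subtype.val (Equiv.congr_fun (MonoidHom.mem_ker.mp hb) ⟨u, hu⟩)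
    simp only [actU, MonoidHom.coe_mk, OneHom.coe_mk, MulEquiv.toEquiv_eq_coe, MulEquiv.coe_toEquiv,
      MulAut.conjNormal_apply, Equiv.Perm.coe_one, id_eq] at this
    exact mul_inv_eq_iff_eq_mul.mp this
  have hidx : Nat.card B ≤ (p ^ m).factorial * Nat.card B₀ := by
    rw [← Subgroup.card_mul_index B₀, hB₀, Subgroup.index_ker, mul_comm]
    gcongr
    refine (Subgroup.card_le_card_group _).trans ?_
    rw [Nat.card_perm]
    exact Nat.factorial_le (card_pGroup_le hm hU)
  -- powers are central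
  have hcentral : ∀ x : B₀, x ^ p ^ m ∈ center B₀ := by
    intro x
    rw [Subgroup.mem_center_iff]
    intro y
    have key : ∀ n : ℕ, (x : B) ^ n * y * ((x : B) ^ n)⁻¹ * (y : B)⁻¹ =
        ((x : B) * y * (x : B)⁻¹ * (y : B)⁻¹) ^ n := by
      intro n
      induction n with
      | zero => simp
      | succ n ih =>
        set c : B := (x : B) * y * (x : B)⁻¹ * (y : B)⁻¹ with hc
        have hcx : Commute (x : B) (c ^ n) := (hB₀cent x x.2 c (hab _ _)).pow_right n
        rw [pow_succ' c n, pow_succ' (x : B) n]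
        calc (x : B) * (x : B) ^ n * y * ((x : B) * (x : B) ^ n)⁻¹ * (y : B)⁻¹
            = (x : B) * ((x : B) ^ n * y * ((x : B) ^ n)⁻¹ * (y : B)⁻¹) * y * (x : B)⁻¹ * (y : B)⁻¹ := by
              group
          _ = (x : B) * c ^ n * y * (x : B)⁻¹ * (y : B)⁻¹ := by rw [ih]
          _ = c ^ n * ((x : B) * y * (x : B)⁻¹ * (y : B)⁻¹) := by rw [hcx.eq]; group
          _ = c * c ^ n := by rw [← hc, ← pow_succ, pow_succ']
    have h1 : ((x : B) * y * (x : B)⁻¹ * (y : B)⁻¹) ^ p ^ m = 1 := by
      obtain ⟨k, hk⟩ := hU ⟨_, hab (x : B) y⟩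
      exact pow_pm_eq_one hm (congrArg Subtype.val hk)
    have h2 := key (p ^ m)
    rw [h1, mul_inv_eq_one, mul_inv_eq_iff_eq_mul] at h2
    exact Subtype.ext (by simpa using h2.symm)
  refine ⟨(center B₀).map B₀.subtype, ?_, ?_⟩
  · rintro _ ⟨a, ha, rfl⟩ _ ⟨b, -, rfl⟩
    exact congrArg Subtype.val (Subgroup.mem_center_iff.mp ha b).symm
  · rw [Subgroup.card_subtype]
    refine hidx.trans ?_
    rw [mul_assoc]
    gcongr
    have hq : IsPGroup p (B₀ ⧸ center B₀) := fun q => by
      obtain ⟨x, rfl⟩ := QuotientGroup.mk_surjective q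
      exact ⟨m, by rw [← QuotientGroup.mk_pow, QuotientGroup.eq_one_iff]; exact hcentral x⟩
    rw [Subgroup.card_eq_card_quotient_mul_card_subgroup (center B₀)]
    gcongr
    obtain ⟨i, hi⟩ := IsPGroup.iff_card.mp hq
    rw [hi]
    have hp : p.Prime := Fact.out
    refine Nat.pow_le_pow_right hp.pos (le_trans
      ((hp.pow_dvd_iff_le_factorization (Nat.card_pos (α := B)).ne').mp ?_) hm)
    rw [← hi]
    exact (Dvd.intro _ (Subgroup.card_eq_card_quotient_mul_card_subgroup (center B₀)).symm).trans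
      (Subgroup.card_subgroup_dvd_card B₀)

/-- The statement proved by induction on the dimension. -/
def Holds (p m n c : ℕ) : Prop :=
  ∀ (K : Type v) [Field K] [CharP K p] [IsAlgClosed K] (G : Type u) [Group G] [Finite G]
    (V : Type v) [AddCommGroup V] [Module K V] [FiniteDimensional K V] (ρ : Representation K G V),
    Function.Injective ρ → Module.finrank K V ≤ n → Small p m G →
      ∃ A : Subgroup G, Comm A ∧ Nat.card G ≤ c * Nat.card A

/-- the bound for reducible groups -/
def redBound (p m c : ℕ) : ℕ := c * c * ((p ^ m).factorial * p ^ m)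

lemma reducible {p m n c : ℕ} [Fact p.Prime] (ih : Holds.{u, v} p m n c)
    (K : Type v) [Field K] [CharP K p] [IsAlgClosed K] (G : Type u) [Group G] [Finite G]
    (V : Type v) [AddCommGroup V] [Module K V] [FiniteDimensional K V] (ρ : Representation K G V)
    (hinj : Function.Injective ρ) (hn : Module.finrank K V ≤ n + 1) (hm : Small p m G)
    (W : Submodule K V) (hW0 : W ≠ ⊥) (hW1 : W ≠ ⊤) (hW : ∀ g : G, ∀ v ∈ W, ρ g v ∈ W) :
    ∃ A : Subgroup G, Comm A ∧ Nat.card G ≤ redBound p m c * Nat.card A := by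
  let ρ₁ : Representation K G W :=
    { toFun := fun g => (ρ g).restrict (hW g)
      map_one' := by ext x; simp
      map_mul' := fun g h => by ext x; simp }
  let ρ₂ : Representation K G (V ⧸ W) :=
    { toFun := fun g => W.mapQ W (ρ g) (hW g)
      map_one' := Submodule.linearMap_qext _ (LinearMap.ext fun x => by simp)
      map_mul' := fun g h => Submodule.linearMap_qext _ (LinearMap.ext fun x => by simp) }
  -- a bounded-index subgroup from an invariant piece
  have step : ∀ (X : Type v) [AddCommGroup X] [Module K X] [FiniteDimensional K X]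
      (σ : Representation K G X), Module.finrank K X ≤ n →
      ∃ B : Subgroup G, Nat.card G ≤ c * Nat.card B ∧
        ∀ x ∈ B, ∀ y ∈ B, σ (x * y * x⁻¹ * y⁻¹) = 1 := by
    intro X _ _ _ σ hX
    let ker : Subgroup G := MonoidHom.ker σ
    let σ' : Representation K (G ⧸ MonoidHom.ker σ) X := QuotientGroup.lift _ σ le_rfl
    have hinj' : Function.Injective σ' := by
      rw [injective_iff_map_eq_one]
      intro q hq
      obtain ⟨g, rfl⟩ := QuotientGroup.mk_surjective q
      exact (QuotientGroup.eq_one_iff g).mpr hq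
    have hsm : Small p m (G ⧸ MonoidHom.ker σ) :=
      hm.of_dvd (Subgroup.card_quotient_dvd_card _)
    obtain ⟨A, hA, hAc⟩ := ih K (G ⧸ MonoidHom.ker σ) X σ' hinj' hX hsm
    refine ⟨A.comap (QuotientGroup.mk' _), ?_, fun x hx y hy => ?_⟩
    · have h1 : (A.comap (QuotientGroup.mk' (MonoidHom.ker σ))).index = A.index :=
        Subgroup.index_comap_of_surjective _ (QuotientGroup.mk'_surjective _)
      rw [← Subgroup.card_mul_index (A.comap (QuotientGroup.mk' (MonoidHom.ker σ))), h1,
        mul_comm c]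
      gcongr
      rw [← Subgroup.card_mul_index A, mul_comm c] at hAc
      exact Nat.le_of_mul_le_mul_left hAc Nat.card_pos
    · have := hA _ hx _ hy
      have h2 : QuotientGroup.mk' (MonoidHom.ker σ) (x * y * x⁻¹ * y⁻¹) = 1 := by
        rw [map_mul, map_mul, map_mul, map_inv, map_inv, this.eq]; group
      exact (QuotientGroup.eq_one_iff _).mp h2
  have hW1' : Module.finrank K W < Module.finrank K V :=
    Submodule.finrank_lt hW1
  have hW0' : 0 < Module.finrank K W := by
    have : Nontrivial W := Submodule.nontrivial_iff_ne_bot.mpr hW0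
    exact Module.finrank_pos
  have hsum := W.finrank_quotient_add_finrank
  obtain ⟨B₁, hB₁, h₁⟩ := step W ρ₁ (by omega)
  obtain ⟨B₂, hB₂, h₂⟩ := step (V ⧸ W) ρ₂ (by omega)
  set B := B₁ ⊓ B₂
  have hB : Nat.card G ≤ c * c * Nat.card B := by
    have h := inf_trans (A := (⊤ : Subgroup G)) (K := B₁) (B := (⊤ : Subgroup G)) (C := B₂) le_top
      (k := c) (l := c) (by rw [Subgroup.card_top]; exact hB₁)
      (by rw [top_inf_eq, Subgroup.card_top]; exact hB₂)
    rwa [Subgroup.card_top] at h
  let U : Subgroup B := (MonoidHom.ker ρ₁ ⊓ MonoidHom.ker ρ₂).subgroupOf B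
  have hU : IsPGroup p U := by
    rintro ⟨⟨x, hxB⟩, hx1, hx2⟩
    refine ⟨1, Subtype.ext (Subtype.ext (hinj ?_))⟩
    have hN : ρ x - 1 ≠ 0 ∨ ρ x - 1 = 0 := (em _).symm
    have hsq : (ρ x - 1) ^ 2 = 0 := by
      ext v
      have hv : ρ x v - v ∈ W := by
        have := LinearMap.congr_fun (MonoidHom.mem_ker.mp hx2) (Submodule.Quotient.mk v)
        exact (Submodule.Quotient.eq W).mp this
      have h := congrArg Subtype.val
        (LinearMap.congr_fun (MonoidHom.mem_ker.mp hx1) ⟨_, hv⟩)
      change ρ x (ρ x v - v) = ρ x v - v at h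
      simp only [pow_two, Module.End.mul_apply, LinearMap.sub_apply, Module.End.one_apply,
        LinearMap.zero_apply]
      exact sub_eq_zero.mpr h
    have hp : p.Prime := Fact.out
    rcases subsingleton_or_nontrivial V with hV | hV
    · exact LinearMap.ext fun v => Subsingleton.elim _ _
    have : CharP (Module.End K V) p :=
      charP_of_injective_algebraMap (algebraMap K (Module.End K V)).injective p
    have h1 : (ρ x - 1) ^ p ^ 1 = 0 := pow_eq_zero_of_le (by simpa using hp.two_le) hsq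
    rw [sub_pow_char_pow_of_commute (p := p) 1 (Commute.one_right _), one_pow, sub_eq_zero] at h1
    show ρ (x ^ p ^ 1) = ρ 1
    rw [map_pow, map_one, h1]
  obtain ⟨A, hA, hAc⟩ := comm_of_mod_small (hm.of_dvd (Subgroup.card_subgroup_dvd_card B)) U hU
    (fun x y => ⟨MonoidHom.mem_ker.mpr (h₁ _ x.2.1 _ y.2.1),
      MonoidHom.mem_ker.mpr (h₂ _ x.2.2 _ y.2.2)⟩)
  refine ⟨A.map B.subtype, ?_, ?_⟩
  · rintro _ ⟨a, ha, rfl⟩ _ ⟨b, hb, rfl⟩
    exact (hA a ha b hb).map B.subtype
  · rw [Subgroup.card_subtype]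
    refine hB.trans ?_
    unfold redBound
    rw [mul_assoc (c * c)]
    gcongr

/-- The bound for irreducible groups. -/
def irrBound (p m n c : ℕ) : ℕ :=
  bound (redBound p m c + 1) (n + 1).factorial (p ^ m) (fun N => (N + 1) ^ (n + 1) * p ^ m)

lemma holds_succ {p m n c : ℕ} [Fact p.Prime] (ih : Holds.{u, v} p m n c) :
    Holds.{u, v} p m (n + 1) (redBound p m c + irrBound p m n c) := by
  intro K _ _ _ G _ _ V _ _ _ ρ hinj hn hm
  by_cases hred : ∃ W : Submodule K V, W ≠ ⊥ ∧ W ≠ ⊤ ∧ ∀ g : G, ∀ v ∈ W, ρ g v ∈ W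
  · obtain ⟨W, h0, h1, h2⟩ := hred
    obtain ⟨A, hA, hAc⟩ := reducible ih K G V ρ hinj hn hm W h0 h1 h2
    exact ⟨A, hA, hAc.trans (Nat.mul_le_mul_right _ (Nat.le_add_right _ _))⟩
  rcases subsingleton_or_nontrivial V with hV | hV
  · have hG : ∀ g : G, g = 1 := fun g => hinj (LinearMap.ext fun v => Subsingleton.elim _ _)
    have : Subsingleton G := ⟨fun a b => by rw [hG a, hG b]⟩
    refine ⟨⊥, fun a _ b _ => by rw [hG a]; exact Commute.one_left b, ?_⟩
    rw [Subgroup.card_bot, mul_one, Nat.card_of_subsingleton (1 : G)]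
    refine le_trans ?_ (Nat.le_add_left _ _)
    refine le_trans ?_ (Nat.le_add_right _ _)
    exact Nat.mul_pos (Nat.mul_pos (Nat.factorial_pos _) (Nat.succ_pos _))
      (Nat.mul_pos (Nat.pow_pos (Nat.succ_pos _)) (Nat.pow_pos (Fact.out : p.Prime).pos))
  have hp : p.Prime := Fact.out
  set t : ℕ → ℕ := fun N => (N + 1) ^ (n + 1) * p ^ m with ht
  have H : Hyp G (redBound p m c + 1) (n + 1).factorial (p ^ m) t := by
    refine ⟨Nat.succ_pos _, fun N => Nat.mul_pos (Nat.pow_pos (Nat.succ_pos _))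
      (Nat.pow_pos hp.pos), Nat.pow_pos hp.pos, ?_, ?_, ?_⟩
    · intro x hx
      set C := centralizer ({x} : Set G) with hC
      obtain ⟨μ, hμ⟩ := Module.End.exists_eigenvalue (ρ x)
      obtain ⟨w, hw⟩ := hμ.exists_hasEigenvector
      let W : Submodule K V := LinearMap.ker (ρ x - μ • 1)
      have hmem : ∀ u, u ∈ W ↔ ρ x u = μ • u := fun u => by simp [W, sub_eq_zero]
      have hW0 : W ≠ ⊥ := (Submodule.ne_bot_iff _).mpr ⟨w, (hmem w).mpr hw.apply_eq_smul, hw.2⟩
      have hW1 : W ≠ ⊤ := by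
        intro htop
        apply hx
        rw [Subgroup.mem_center_iff]
        intro g
        apply hinj
        ext v
        have h : ∀ u, ρ x u = μ • u := fun u => (hmem u).mp (htop ▸ Submodule.mem_top)
        simp [map_mul, h]
      have hWinv : ∀ g : C, ∀ u ∈ W, ρ (g : G) u ∈ W := by
        intro g u hu
        rw [hmem] at hu ⊢
        rw [← Module.End.mul_apply, ← map_mul,
          ← (mem_centralizer_singleton_iff.mp g.2), map_mul, Module.End.mul_apply, hu, map_smul]
      have hinjC : Function.Injective (ρ.comp C.subtype) := hinj.comp Subtype.val_injective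
      obtain ⟨A, hA, hAc⟩ := reducible ih K C V (ρ.comp C.subtype) hinjC hn
        (hm.of_dvd (Subgroup.card_subgroup_dvd_card C)) W hW0 hW1 hWinv
      let T : Subgroup C := A ⊔ Subgroup.zpowers ⟨x, mem_centralizer_singleton_iff.mpr rfl⟩ ⊔
        (center G).subgroupOf C
      have hT : Comm T := by
        have key : T ≤ centralizer (T : Set C) := by
          have hx' : ∀ a : C, Commute (⟨x, mem_centralizer_singleton_iff.mpr rfl⟩ : C) a :=
            fun a => Subtype.ext (mem_centralizer_singleton_iff.mp a.2).symm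
          have hz : ∀ z ∈ (center G).subgroupOf C, ∀ a : C, Commute z a :=
            fun z hz a => Subtype.ext (Subgroup.mem_center_iff.mp hz a).symm
          have hcen : ∀ S : Subgroup C, Subgroup.zpowers ⟨x, mem_centralizer_singleton_iff.mpr rfl⟩ ≤
              centralizer (S : Set C) ∧ (center G).subgroupOf C ≤ centralizer (S : Set C) :=
            fun S => ⟨Subgroup.zpowers_le.mpr (Subgroup.mem_centralizer_iff.mpr
              fun a _ => (hx' a).eq.symm), fun z hz' => Subgroup.mem_centralizer_iff.mpr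
              fun a _ => (hz z hz' a).eq.symm⟩
          refine sup_le (sup_le ?_ (hcen T).1) (hcen T).2
          rw [Subgroup.le_centralizer_iff]
          refine sup_le (sup_le ?_ (hcen A).1) (hcen A).2
          exact fun a ha => Subgroup.mem_centralizer_iff.mpr fun b hb => (hA a ha b hb).eq.symm
        exact fun a ha b hb => (Subgroup.mem_centralizer_iff.mp (key ha) b hb).symm
      refine ⟨T.map C.subtype, ?_, Subgroup.map_subtype_le _, ?_, ?_, ?_⟩
      · rintro _ ⟨a, ha, rfl⟩ _ ⟨b, hb, rfl⟩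
        exact (hT a ha b hb).map C.subtype
      · intro z hz
        exact ⟨⟨z, mem_centralizer_singleton_iff.mpr (Subgroup.mem_center_iff.mp hz x).symm⟩,
          Subgroup.mem_sup_right hz, rfl⟩
      · exact ⟨⟨x, mem_centralizer_singleton_iff.mpr rfl⟩,
          Subgroup.mem_sup_left (Subgroup.mem_sup_right (Subgroup.mem_zpowers _)), rfl⟩
      · rw [Subgroup.card_subtype]
        exact hAc.trans (Nat.mul_le_mul (Nat.le_succ _)
          (Subgroup.card_le_of_le (le_sup_left.trans le_sup_left)))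
    · intro A hA N hN
      refine (rank_bound hinj hm hA N hN).trans ?_
      simp only [ht]
      exact Nat.mul_le_mul_right _
        ((Nat.pow_le_pow_left (Nat.le_succ N) _).trans (Nat.pow_le_pow_right (Nat.succ_pos N) hn))
    · intro A hA
      obtain ⟨L, h1, h2, h3⟩ := aut_bound hinj hm hA
      exact ⟨L, h1, h2.trans (Nat.mul_le_mul_right _ (Nat.factorial_le hn)), h3⟩
  obtain ⟨A, hA, hAc⟩ := exists_comm_card_le H
  exact ⟨A, hA, hAc.trans (Nat.mul_le_mul_right _ (Nat.le_add_left _ _))⟩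

/-- **Brauer–Feit**: bounded index abelian subgroups in every dimension. -/
theorem exists_holds (p m : ℕ) [Fact p.Prime] : ∀ n, ∃ c, Holds.{u, v} p m n c
  | 0 => ⟨1, by
      intro K _ _ _ G _ _ V _ _ _ ρ hinj hn _
      have : Subsingleton V := Module.finrank_zero_iff.mp (Nat.le_zero.mp hn)
      have hG : ∀ g : G, g = 1 := fun g => hinj (LinearMap.ext fun v => Subsingleton.elim _ _)
      have : Subsingleton G := ⟨fun a b => by rw [hG a, hG b]⟩
      refine ⟨⊥, fun a _ b _ => by rw [hG a]; exact Commute.one_left b, ?_⟩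
      rw [Subgroup.card_bot, Nat.card_of_subsingleton (1 : G)]⟩
  | n + 1 => by
      obtain ⟨c, hc⟩ := exists_holds p m n
      exact ⟨_, holds_succ hc⟩

end Cfsg.BrauerFeit
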